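import Groth.Agent.TwistLib.G.Inv
import Groth.Agent.RelConeLib.RetrFibre
import Groth.Agent.PicLib.PullbackGen

/-!
# Morphisms to `Proj` from invertible modules with sections: uniqueness
-/

set_option autoImplicit false
set_option linter.unusedSectionVars false
set_option backward.isDefEq.respectTransparency.types false
set_option maxHeartbeats 400000

universe u

open AlgebraicGeometry CategoryTheory TopologicalSpace Opposite HomogeneousLocalization
open Groth.Agent.Coherent Groth.Agent.PicLib Groth.Agent.AmpleLib Groth.Agent.TwistLib.G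
open scoped HomogeneousIdeal

namespace Groth.Agent.UPLib

variable {A σ : Type u} [CommRing A] [SetLike σ A] [AddSubgroupClass σ A] {𝒜 : ℕ → σ} [GradedRing 𝒜]

section gen

variable (hgen : Algebra.adjoin (𝒜 0) (𝒜 1 : Set A) = ⊤)
include hgen

/-- Induction on homogeneous elements when degree one generates. -/
theorem deg_induction {P : ℕ → A → Prop} (h0 : ∀ a ∈ 𝒜 0, P 0 a)
    (h1 : ∀ (n : ℕ) (a b : A), a ∈ 𝒜 n → b ∈ 𝒜 1 → P n a → P (n + 1) (a * b))
    (hzero : ∀ n, P n 0) (hadd : ∀ (n : ℕ) (a b : A), a ∈ 𝒜 n → b ∈ 𝒜 n → P n a → P n b → P n (a + b))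
    {n : ℕ} {a : A} (ha : a ∈ 𝒜 n) : P n a := by
  classical
  suffices h : ∀ y : A, ∀ q, P q (DirectSum.decompose 𝒜 y q : A) by
    simpa [DirectSum.decompose_of_mem_same 𝒜 ha] using h a n
  intro y
  have hy : y ∈ Subalgebra.toSubmodule (Algebra.adjoin (𝒜 0) (𝒜 1 : Set A)) := by rw [hgen]; trivial
  rw [Algebra.adjoin_eq_span] at hy
  have hmon : ∀ y ∈ Submonoid.closure (𝒜 1 : Set A), ∀ r ∈ 𝒜 0, ∃ k, r * y ∈ 𝒜 k ∧ P k (r * y) := by
    intro y hy
    induction hy using Submonoid.closure_induction_left with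
    | one => exact fun r hr => ⟨0, by rwa [mul_one], by rw [mul_one]; exact h0 r hr⟩
    | mul_left b hb z _ ih =>
      intro r hr
      obtain ⟨k, hk, hP⟩ := ih r hr
      refine ⟨k + 1, ?_, ?_⟩
      · rw [mul_comm b z, ← mul_assoc]; exact SetLike.mul_mem_graded hk hb
      · rw [mul_comm b z, ← mul_assoc]; exact h1 k _ _ hk hb hP
  induction hy using Submodule.span_induction with
  | mem z hz =>
    intro q
    obtain ⟨k, hk, hP⟩ := hmon z hz 1 SetLike.GradedOne.one_mem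
    rw [one_mul] at hk hP
    by_cases h : k = q
    · subst h; rwa [DirectSum.decompose_of_mem_same 𝒜 hk]
    · rw [DirectSum.decompose_of_mem_ne 𝒜 hk h]; exact hzero q
  | zero => intro q; simpa using hzero q
  | add z w _ _ hz hw =>
    intro q
    rw [DirectSum.decompose_add, DirectSum.add_apply, AddMemClass.coe_add]
    exact hadd q _ _ (SetLike.coe_mem _) (SetLike.coe_mem _) (hz q) (hw q)
  | smul r z hz ih0 =>
    intro q
    clear ih0
    rw [Algebra.smul_def, show algebraMap (𝒜 0) A r = r.1 from rfl]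
    induction hz using Submodule.span_induction generalizing r with
    | mem z hz =>
      obtain ⟨k, hk, hP⟩ := hmon z hz r.1 r.2
      by_cases h : k = q
      · subst h; rwa [DirectSum.decompose_of_mem_same 𝒜 hk]
      · rw [DirectSum.decompose_of_mem_ne 𝒜 hk h]; exact hzero q
    | zero => simpa using hzero q
    | add z w _ _ hz hw =>
      rw [mul_add, DirectSum.decompose_add, DirectSum.add_apply, AddMemClass.coe_add]
      exact hadd q _ _ (SetLike.coe_mem _) (SetLike.coe_mem _) (hz r) (hw r)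
    | smul r' z _ ih =>
      rw [Algebra.smul_def, show algebraMap (𝒜 0) A r' = r'.1 from rfl, ← mul_assoc]
      exact ih (r * r')

theorem irrelevant_le_span : (HomogeneousIdeal.irrelevant 𝒜).toIdeal ≤ Ideal.span (𝒜 1 : Set A) :=
  Groth.Agent.ProjLib.irrelevant_le_span_of_adjoin_eq_top 𝒜 (fun e he => ⟨1, one_pos, he⟩) hgen

theorem exists_degOne (x : ProjectiveSpectrum 𝒜) : ∃ f ∈ 𝒜 1, f ∉ x.asHomogeneousIdeal.toIdeal := by
  by_contra! h
  exact x.not_irrelevant_le (show (HomogeneousIdeal.irrelevant 𝒜).toIdeal ≤ x.asHomogeneousIdeal.toIdeal from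
    (irrelevant_le_span hgen).trans (Ideal.span_le.mpr h))

/-- Two ring homomorphisms on `A_(f)`, `f` of degree one, agree once they agree on `a/1` and `a/f`. -/
theorem away_ext {C : Type u} [CommRing C] {f : A} (hf : f ∈ 𝒜 1) {h h' : Away 𝒜 f →+* C}
    (e0 : ∀ (a : A) (ha : a ∈ 𝒜 (0 • 1)), h (Away.mk 𝒜 hf 0 a ha) = h' (Away.mk 𝒜 hf 0 a ha))
    (e1 : ∀ (a : A) (ha : a ∈ 𝒜 (1 • 1)), h (Away.mk 𝒜 hf 1 a ha) = h' (Away.mk 𝒜 hf 1 a ha)) : h = h' := by
  refine RingHom.ext fun q => ?_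
  obtain ⟨n, a, ha, rfl⟩ := Away.mk_surjective 𝒜 hf q
  suffices key : ∀ {n : ℕ} {a : A}, a ∈ 𝒜 n → ∀ ha, h (Away.mk 𝒜 hf n a ha) = h' (Away.mk 𝒜 hf n a ha) from
    key (by simpa using ha) ha
  intro n a ha
  refine deg_induction hgen (P := fun n a => ∀ ha, h (Away.mk 𝒜 hf n a ha) = h' (Away.mk 𝒜 hf n a ha))
    (fun a _ ha => e0 a ha) ?_ ?_ ?_ ha
  · intro n a b ha hb ih hab
    have e : Away.mk 𝒜 hf (n + 1) (a * b) hab =
        Away.mk 𝒜 hf n a (by simpa using ha) * Away.mk 𝒜 hf 1 b (by simpa using hb) := by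
      refine HomogeneousLocalization.val_injective _ ?_
      rw [HomogeneousLocalization.val_mul, Away.val_mk, Away.val_mk, Away.val_mk, Localization.mk_mul]
      exact Localization.mk_eq_mk_iff.2 (Localization.r_iff_exists.2 ⟨1, by
        simp only [Submonoid.coe_mul, Submonoid.coe_one]; ring⟩)
    rw [e, map_mul, map_mul, ih, e1]
  · intro n h0
    have e : Away.mk 𝒜 hf n (0 : A) h0 = 0 := by
      refine HomogeneousLocalization.val_injective _ ?_
      rw [Away.val_mk, HomogeneousLocalization.val_zero, Localization.mk_zero]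
    rw [e, map_zero, map_zero]
  · intro n a b ha hb iha ihb hab
    have e : Away.mk 𝒜 hf n (a + b) hab =
        Away.mk 𝒜 hf n a (by simpa using ha) + Away.mk 𝒜 hf n b (by simpa using hb) := by
      refine HomogeneousLocalization.val_injective _ ?_
      rw [HomogeneousLocalization.val_add, Away.val_mk, Away.val_mk, Away.val_mk, Localization.add_mk_self]
    rw [e, map_add, map_add, iha, ihb]

end gen

variable {X : Scheme.{u}}

/-- A morphism into `Proj` over the preimage of a standard open. -/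
theorem ι_comp_eq {d : ℕ} {f : A} (hf : f ∈ 𝒜 d) (hd : 0 < d) (r : X ⟶ Proj 𝒜) (W : X.Opens)
    (e : W ≤ r ⁻¹ᵁ Proj.basicOpen 𝒜 f) :
    W.ι ≫ r = W.toSpecΓ ≫ Spec.map (Proj.awayToSection 𝒜 f ≫ r.appLE _ W e) ≫ Proj.awayι 𝒜 f hf hd := by
  rw [Spec.map_comp, Category.assoc, Scheme.Opens.toSpecΓ_SpecMap_appLE_assoc, ← Proj.basicOpenIsoSpec_inv_ι,
    ← r.resLE_comp_ι e]
  congr 1
  conv_lhs => rw [← Category.id_comp (Proj.basicOpen 𝒜 f).ι]
  rw [← (Proj.basicOpenIsoSpec 𝒜 f hf hd).hom_inv_id, Proj.basicOpenIsoSpec_hom]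
  rfl

/-- The fraction `a/f` carries `f/1` to `a/1`. -/
theorem mk_smul_sec {f : A} (hf : f ∈ 𝒜 1) (a : A) (ha : a ∈ 𝒜 (1 • 1)) :
    (show Γ(Proj 𝒜, Proj.basicOpen 𝒜 f) from (Proj.awayToSection 𝒜 f).hom (Away.mk 𝒜 hf 1 a ha)) •
      resM (GrTwist.twist 𝒜 ((1 : ℕ) : ℤ)) (le_top : Proj.basicOpen 𝒜 f ≤ ⊤)
        (show Γ(GrTwist.twist 𝒜 ((1 : ℕ) : ℤ), ⊤) from GrTwist.globalOf 𝒜 ⟨f, hf⟩) =
      resM (GrTwist.twist 𝒜 ((1 : ℕ) : ℤ)) (le_top : Proj.basicOpen 𝒜 f ≤ ⊤)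
        (show Γ(GrTwist.twist 𝒜 ((1 : ℕ) : ℤ), ⊤) from GrTwist.globalOf 𝒜 ⟨a, by simpa using ha⟩) := by
  refine sectN_ext fun y => (GrTwist.coe_smul_val _ y.1 _ _).trans ?_
  refine (congrArg (· * _) (TwistLib.G.val_awayToSection_mk hf 1 a ha y)).trans ?_
  exact (Localization.mk_mul _ _ _ _).trans (Localization.mk_eq_mk_iff.2 (Localization.r_iff_exists.2
    ⟨1, by simp only [Submonoid.coe_mul, Submonoid.coe_one]; ring⟩))

/-- The ring map of a morphism into a standard open, on a fraction times a section. -/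
theorem appLE_smul_pullSec {f : A} (hf : f ∈ 𝒜 1) (r : X ⟶ Proj 𝒜) (W : X.Opens)
    (e : W ≤ r ⁻¹ᵁ Proj.basicOpen 𝒜 f) (a : A) (ha : a ∈ 𝒜 (1 • 1)) :
    (Proj.awayToSection 𝒜 f ≫ r.appLE _ W e).hom (Away.mk 𝒜 hf 1 a ha) •
      resM ((Scheme.Modules.pullback r).obj (GrTwist.twist 𝒜 ((1 : ℕ) : ℤ))) (le_top : W ≤ ⊤)
        (PicLib.pullSec r (show Γ(GrTwist.twist 𝒜 ((1 : ℕ) : ℤ), ⊤) from GrTwist.globalOf 𝒜 ⟨f, hf⟩)) =
      resM ((Scheme.Modules.pullback r).obj (GrTwist.twist 𝒜 ((1 : ℕ) : ℤ))) (le_top : W ≤ ⊤)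
        (PicLib.pullSec r (show Γ(GrTwist.twist 𝒜 ((1 : ℕ) : ℤ), ⊤) from GrTwist.globalOf 𝒜 ⟨a, by simpa using ha⟩)) := by
  have hrel := mk_smul_sec (𝒜 := 𝒜) hf a ha
  have h := congrArg (fun z => resM _ e (PicLib.pullSec r z)) hrel
  simp only [pullSec_smul, resM_smul, ← resM_pullSec, resM_resM] at h
  exact h

/-- `a / 1` as a global section of `O(1)`. -/
noncomputable def sec (a : A) (ha : a ∈ 𝒜 1) : Γ(GrTwist.twist 𝒜 ((1 : ℕ) : ℤ), ⊤) := GrTwist.globalOf 𝒜 ⟨a, ha⟩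

theorem appLE_smul_sec {f : A} (hf : f ∈ 𝒜 1) (r : X ⟶ Proj 𝒜) (W : X.Opens)
    (e : W ≤ r ⁻¹ᵁ Proj.basicOpen 𝒜 f) (a : A) (ha : a ∈ 𝒜 (1 • 1)) :
    (Proj.awayToSection 𝒜 f ≫ r.appLE _ W e).hom (Away.mk 𝒜 hf 1 a ha) •
      resM _ (le_top : W ≤ ⊤) (PicLib.pullSec r (sec f hf)) =
      resM _ (le_top : W ≤ ⊤) (PicLib.pullSec r (sec a (by simpa using ha))) :=
  appLE_smul_pullSec hf r W e a ha

theorem glocus_sec (hgen : Algebra.adjoin (𝒜 0) (𝒜 1 : Set A) = ⊤) {f : A} (hf : f ∈ 𝒜 1) :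
    glocus (GrTwist.twist 𝒜 ((1 : ℕ) : ℤ)) (sec f hf) = Proj.basicOpen 𝒜 f := by
  refine Eq.trans (congrArg _ ?_) (TwistLib.G.glocus_globalOf_one (exists_degOne hgen) hf)
  exact congrArg (fun z => GrTwist.globalOf 𝒜 z) (Subtype.ext (pow_one f).symm)

theorem preimage_basicOpen_eq (hgen : Algebra.adjoin (𝒜 0) (𝒜 1 : Set A) = ⊤) (r : X ⟶ Proj 𝒜) {f : A}
    (hf : f ∈ 𝒜 1) : glocus _ (PicLib.pullSec r (sec f hf)) = r ⁻¹ᵁ Proj.basicOpen 𝒜 f :=
  (glocus_pullSec r (TwistLib.G.isInvertible_twist (exists_degOne hgen) _) _).trans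
    (congrArg (r ⁻¹ᵁ ·) (glocus_sec hgen hf))

theorem toSpecΓ_map_injective {W : X.Opens} {R : CommRingCat.{u}} {φ ψ : R ⟶ Γ(X, W)}
    (h : W.toSpecΓ ≫ Spec.map φ = W.toSpecΓ ≫ Spec.map ψ) : φ = ψ := by
  have h' := congrArg (fun q => q.appTop) h
  simp only [Scheme.Hom.comp_appTop, Scheme.Opens.toSpecΓ_appTop, ← Category.assoc,
    Scheme.ΓSpecIso_naturality, cancel_mono] at h'
  simpa [cancel_epi] using h'

theorem appLE_fromZero {f : A} (hf : f ∈ 𝒜 1) (r : X ⟶ Proj 𝒜) (W : X.Opens) (e : W ≤ r ⁻¹ᵁ Proj.basicOpen 𝒜 f) :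
    W.ι ≫ r ≫ Proj.toSpecZero 𝒜 = W.toSpecΓ ≫
      Spec.map (CommRingCat.ofHom (fromZeroRingHom 𝒜 _) ≫ Proj.awayToSection 𝒜 f ≫ r.appLE _ W e) := by
  rw [← Category.assoc, ι_comp_eq hf one_pos r W e, Category.assoc, Category.assoc, Proj.awayι_toSpecZero,
    ← Spec.map_comp]

theorem away_mk_zero {f : A} (hf : f ∈ 𝒜 1) (a : A) (ha : a ∈ 𝒜 (0 • 1)) :
    Away.mk 𝒜 hf 0 a ha = fromZeroRingHom 𝒜 _ ⟨a, by simpa using ha⟩ := by
  refine HomogeneousLocalization.val_injective _ ?_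
  rw [Away.val_mk]
  exact Localization.mk_eq_mk_iff.2 (Localization.r_iff_exists.2 ⟨1, by simp⟩)

theorem mem_one_of_mem_span {T : Set A} (hT1 : T ⊆ (𝒜 1 : Set A)) {b : A} (hb : b ∈ Submodule.span (𝒜 0) T) :
    b ∈ 𝒜 1 := by
  induction hb using Submodule.span_induction with
  | mem b hb => exact hT1 hb
  | zero => exact zero_mem _
  | add b c _ _ hb hc => exact add_mem hb hc
  | smul c b _ hb =>
    rw [Algebra.smul_def]
    exact zero_add 1 ▸ SetLike.mul_mem_graded c.2 hb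

/-- A morphism to `Proj` is determined by `r ≫ toSpecZero` and the pulled back sections of `O(1)`. -/
theorem eq_of_iso_of_span (hgen : Algebra.adjoin (𝒜 0) (𝒜 1 : Set A) = ⊤) {r r' : X ⟶ Proj 𝒜}
    (h0 : r ≫ Proj.toSpecZero 𝒜 = r' ≫ Proj.toSpecZero 𝒜)
    (τ : (Scheme.Modules.pullback r).obj (GrTwist.twist 𝒜 ((1 : ℕ) : ℤ)) ≅
      (Scheme.Modules.pullback r').obj (GrTwist.twist 𝒜 ((1 : ℕ) : ℤ)))
    (T : Set A) (hT1 : T ⊆ (𝒜 1 : Set A)) (hT : ∀ a ∈ 𝒜 1, a ∈ Submodule.span (𝒜 0) T)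
    (hτ : ∀ (a : A) (ha : a ∈ 𝒜 1), a ∈ T → τ.hom.app ⊤ (PicLib.pullSec r (sec a ha)) = PicLib.pullSec r' (sec a ha)) :
    r = r' := by
  let W : {f // f ∈ 𝒜 1 ∧ f ∈ T} → X.Opens := fun f => r ⁻¹ᵁ Proj.basicOpen 𝒜 f.1
  have hW' : ∀ f : {f // f ∈ 𝒜 1 ∧ f ∈ T}, W f = r' ⁻¹ᵁ Proj.basicOpen 𝒜 f.1 := fun f => by
    rw [← preimage_basicOpen_eq hgen r' f.2.1, ← hτ f.1 f.2.1 f.2.2, glocus_map_iso, preimage_basicOpen_eq hgen r f.2.1]
  have hcov : IsOpenCover W := eq_top_iff.2 fun x _ => by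
    obtain ⟨f, hf, hx⟩ := exists_degOne hgen (r x)
    obtain ⟨t, ht, hxt⟩ : ∃ t ∈ T, t ∉ (r x).asHomogeneousIdeal.toIdeal := by
      by_contra! hall
      exact hx ((Submodule.span_le_restrictScalars (𝒜 0) A T).trans
        (show (Submodule.span A T).restrictScalars (𝒜 0) ≤ (r x).asHomogeneousIdeal.toIdeal.restrictScalars (𝒜 0) from
          fun z hz => Ideal.span_le.mpr hall hz) (hT f hf))
    exact Opens.mem_iSup.2 ⟨⟨t, hT1 ht, ht⟩, hxt⟩
  suffices key : ∀ f : {f // f ∈ 𝒜 1 ∧ f ∈ T}, (W f).ι ≫ r = (W f).ι ≫ r' from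
    (X.openCoverOfIsOpenCover W hcov).hom_ext _ _ key
  intro f
  rw [ι_comp_eq f.2.1 one_pos r (W f) le_rfl, ι_comp_eq f.2.1 one_pos r' (W f) (hW' f).le]
  congr 2
  refine congrArg _ (CommRingCat.hom_ext (away_ext hgen f.2.1 (fun a ha => ?_) fun a ha => ?_))
  · have h : (W f).ι ≫ r ≫ Proj.toSpecZero 𝒜 = (W f).ι ≫ r' ≫ Proj.toSpecZero 𝒜 := congrArg _ h0
    rw [appLE_fromZero f.2.1 r (W f) le_rfl, appLE_fromZero f.2.1 r' (W f) (hW' f).le] at h
    rw [away_mk_zero]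
    exact ConcreteCategory.congr_hom (toSpecΓ_map_injective h) ⟨a, by simpa using ha⟩
  · let φ := Proj.awayToSection 𝒜 f.1 ≫ r.appLE _ (W f) le_rfl
    let φ' := Proj.awayToSection 𝒜 f.1 ≫ r'.appLE _ (W f) (hW' f).le
    have h0' : ∀ (c : 𝒜 0), φ.hom (fromZeroRingHom 𝒜 _ c) = φ'.hom (fromZeroRingHom 𝒜 _ c) := fun c => by
      have h : (W f).ι ≫ r ≫ Proj.toSpecZero 𝒜 = (W f).ι ≫ r' ≫ Proj.toSpecZero 𝒜 := congrArg _ h0
      rw [appLE_fromZero f.2.1 r (W f) le_rfl, appLE_fromZero f.2.1 r' (W f) (hW' f).le] at h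
      exact ConcreteCategory.congr_hom (toSpecΓ_map_injective h) c
    suffices key : ∀ (b : A), b ∈ Submodule.span (𝒜 0) T → ∀ hb : b ∈ 𝒜 (1 • 1),
        φ.hom (Away.mk 𝒜 f.2.1 1 b hb) = φ'.hom (Away.mk 𝒜 f.2.1 1 b hb) from key a (hT a (by simpa using ha)) ha
    clear! a
    intro b hb
    induction hb using Submodule.span_induction with
    | mem b hbT =>
      intro hb
      have hgen' : IsGen _ (W f) (resM _ le_top (PicLib.pullSec r' (sec f.1 f.2.1))) :=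
        (le_glocus_iff _ _).1 ((hW' f).le.trans (preimage_basicOpen_eq hgen r' f.2.1).ge)
      refine (hgen' (W f) le_rfl).1 ?_
      show _ • resM _ _ (resM _ _ _) = _ • resM _ _ (resM _ _ _)
      rw [resM_self]
      rw [appLE_smul_sec f.2.1 r' (W f) (hW' f).le b hb]
      have h := congrArg (τ.hom.app (W f)) (appLE_smul_sec f.2.1 r (W f) le_rfl b hb)
      rw [Scheme.Modules.Hom.app_smul, app_resM, app_resM, hτ _ _ f.2.2, hτ _ _ hbT] at h
      exact h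
    | zero =>
      intro hb
      have e : Away.mk 𝒜 f.2.1 1 (0 : A) hb = 0 := by
        refine HomogeneousLocalization.val_injective _ ?_
        rw [Away.val_mk, HomogeneousLocalization.val_zero, Localization.mk_zero]
      rw [e, map_zero, map_zero]
    | add b c hbs hcs ihb ihc =>
      intro hbc
      have hb1 := mem_one_of_mem_span hT1 hbs
      have hc1 := mem_one_of_mem_span hT1 hcs
      have e : Away.mk 𝒜 f.2.1 1 (b + c) hbc =
          Away.mk 𝒜 f.2.1 1 b (by simpa using hb1) + Away.mk 𝒜 f.2.1 1 c (by simpa using hc1) := by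
        refine HomogeneousLocalization.val_injective _ ?_
        rw [HomogeneousLocalization.val_add, Away.val_mk, Away.val_mk, Away.val_mk, Localization.add_mk_self]
      rw [e, map_add, map_add, ihb, ihc]
    | smul c b hbs ihb =>
      intro hcb
      have hb1 := mem_one_of_mem_span hT1 hbs
      have e : Away.mk 𝒜 f.2.1 1 (c • b) hcb =
          fromZeroRingHom 𝒜 _ c * Away.mk 𝒜 f.2.1 1 b (by simpa using hb1) := by
        refine HomogeneousLocalization.val_injective _ ?_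
        rw [HomogeneousLocalization.val_mul, Away.val_mk, Away.val_mk]
        refine Eq.trans ?_ (Localization.mk_mul _ _ _ _).symm
        exact Localization.mk_eq_mk_iff.2 (Localization.r_iff_exists.2 ⟨1, by
          simp [Algebra.smul_def, SetLike.GradeZero.algebraMap_apply]⟩)
      rw [e, map_mul, map_mul, h0', ihb]

theorem eq_of_iso (hgen : Algebra.adjoin (𝒜 0) (𝒜 1 : Set A) = ⊤) {r r' : X ⟶ Proj 𝒜}
    (h0 : r ≫ Proj.toSpecZero 𝒜 = r' ≫ Proj.toSpecZero 𝒜)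
    (τ : (Scheme.Modules.pullback r).obj (GrTwist.twist 𝒜 ((1 : ℕ) : ℤ)) ≅
      (Scheme.Modules.pullback r').obj (GrTwist.twist 𝒜 ((1 : ℕ) : ℤ)))
    (hτ : ∀ (a : A) (ha : a ∈ 𝒜 1), τ.hom.app ⊤ (PicLib.pullSec r (sec a ha)) = PicLib.pullSec r' (sec a ha)) :
    r = r' :=
  eq_of_iso_of_span hgen h0 τ (𝒜 1 : Set A) le_rfl (fun _ ha => Submodule.subset_span ha) fun a ha _ => hτ a ha

end Groth.Agent.UPLib
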