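import Groth.Agent.PicLib.Invertible
import Groth.Agent.AmpleLib.Ample
import Mathlib.RingTheory.LocalProperties.Projective
import Mathlib.RingTheory.LocalProperties.FinitePresentation
import Mathlib.RingTheory.PicardGroup
import Mathlib.RingTheory.Spectrum.Prime.FreeLocus

/-!
# Invertible modules on an affine scheme
-/

set_option autoImplicit false
set_option backward.isDefEq.respectTransparency.types false
set_option maxHeartbeats 400000

universe u

open AlgebraicGeometry CategoryTheory TopologicalSpace Opposite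
open Groth.Agent.Coherent Groth.Agent.PicLib Groth.Agent.AmpleLib

namespace Groth.Agent.UPLib

section alg

variable {R M : Type*} [CommRing R] [AddCommGroup M] [Module R M]

/-- `t` generates freely after inverting `S`. -/
structure GenAt (S : Submonoid R) (t : M) : Prop where
  surj : ∀ x : M, ∃ s ∈ S, ∃ a : R, s • x = a • t
  inj : ∀ a : R, a • t = 0 → ∃ s ∈ S, s * a = 0

theorem GenAt.mono {S S' : Submonoid R} {t : M} (h : GenAt S t) (hle : S ≤ S') : GenAt S' t :=
  ⟨fun x => let ⟨s, hs, a, e⟩ := h.surj x; ⟨s, hle hs, a, e⟩,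
    fun a e => let ⟨s, hs, e'⟩ := h.inj a e; ⟨s, hle hs, e'⟩⟩

theorem GenAt.bijective {S : Submonoid R} {t : M} (h : GenAt S t) :
    Function.Bijective (LinearMap.toSpanSingleton (Localization S) (LocalizedModule S M) (LocalizedModule.mk t 1)) := by
  constructor
  · rw [injective_iff_map_eq_zero]
    intro c hc
    obtain ⟨⟨a, s⟩, rfl⟩ : ∃ p : R × S, Localization.mk p.1 p.2 = c :=
      Localization.induction_on c fun p => ⟨p, rfl⟩
    rw [LinearMap.toSpanSingleton_apply, LocalizedModule.mk_smul_mk, ← LocalizedModule.zero_mk 1,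
      LocalizedModule.mk_eq] at hc
    obtain ⟨u, hu⟩ := hc
    simp only [one_smul, smul_zero, Submonoid.smul_def, ← mul_smul] at hu
    obtain ⟨w, hw, e⟩ := h.inj _ hu
    refine (Localization.mk_eq_mk_iff.2 (Localization.r_iff_exists.2 ⟨⟨w * u, mul_mem hw u.2⟩, ?_⟩)).trans
      (Localization.mk_zero 1)
    simpa [mul_assoc] using e
  · intro z
    induction z using LocalizedModule.induction_on with
    | h x s =>
      obtain ⟨u, hu, a, e⟩ := h.surj x
      refine ⟨Localization.mk a (⟨u, hu⟩ * s), ?_⟩
      rw [LinearMap.toSpanSingleton_apply, LocalizedModule.mk_smul_mk, mul_one, ← e,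
        show u • x = (⟨u, hu⟩ : S) • x from rfl, LocalizedModule.mk_cancel_common_left]

theorem GenAt.free {S : Submonoid R} {t : M} (h : GenAt S t) :
    Module.Free (Localization S) (LocalizedModule S M) :=
  Module.Free.of_equiv (LinearEquiv.ofBijective _ h.bijective)

theorem GenAt.finrank_eq_one {S : Submonoid R} [Nontrivial (Localization S)] {t : M} (h : GenAt S t) :
    Module.finrank (Localization S) (LocalizedModule S M) = 1 :=
  (LinearEquiv.ofBijective _ h.bijective).finrank_eq.symm.trans (CommSemiring.finrank_self _)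

theorem GenAt.finitePresentation {S : Submonoid R} {t : M} (h : GenAt S t) :
    Module.FinitePresentation (Localization S) (LocalizedModule S M) :=
  Module.FinitePresentation.of_equiv (LinearEquiv.ofBijective _ h.bijective)

/-- Locally free of rank one modules are projective of rank one. -/
theorem projective_of_genAt (h : ∀ p : PrimeSpectrum R, ∃ (f : R) (t : M), f ∉ p.asIdeal ∧ GenAt (.powers f) t) :
    Module.Projective R M ∧ ∀ p : PrimeSpectrum R, Module.finrank (Localization.AtPrime p.asIdeal)
      (LocalizedModule p.asIdeal.primeCompl M) = 1 := by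
  have hp : ∀ p : PrimeSpectrum R, ∃ t : M, GenAt p.asIdeal.primeCompl t := fun p => by
    obtain ⟨f, t, hf, ht⟩ := h p
    exact ⟨t, ht.mono (Submonoid.powers_le.2 hf)⟩
  refine ⟨?_, fun p => (hp p).choose_spec.finrank_eq_one⟩
  have hspan : Ideal.span {f : R | ∃ t : M, GenAt (.powers f) t} = ⊤ := by
    by_contra hne
    obtain ⟨m, hm, hle⟩ := Ideal.exists_le_maximal _ hne
    obtain ⟨f, t, hf, ht⟩ := h ⟨m, hm.isPrime⟩
    exact hf (hle (Ideal.subset_span ⟨t, ht⟩))
  haveI : Module.FinitePresentation R M :=
    Module.FinitePresentation.of_localizationSpan _ hspan fun g => g.2.choose_spec.finitePresentation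
  refine Module.projective_of_localization_maximal fun I hI => ?_
  haveI := (hp ⟨I, hI.isPrime⟩).choose_spec.free
  exact Module.Projective.of_free

/-- A finite projective module of rank one spanned by a family is, near every prime, generated freely by a member. -/
theorem exists_genAt [Module.Finite R M] [Module.Projective R M] {I : Type*} (t : I → M)
    (ht : Submodule.span R (Set.range t) = ⊤) (p : PrimeSpectrum R)
    (hrk : Module.finrank (Localization.AtPrime p.asIdeal) (LocalizedModule p.asIdeal.primeCompl M) = 1) :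
    ∃ (i : I) (f : R), f ∉ p.asIdeal ∧ GenAt (.powers f) (t i) := by
  let S := p.asIdeal.primeCompl
  let Rp := Localization.AtPrime p.asIdeal
  let g := LocalizedModule.mkLinearMap S M
  haveI : Module.FinitePresentation R M := Module.finitePresentation_of_projective R M
  haveI : Module.Free Rp (LocalizedModule S M) := Module.free_of_flat_of_isLocalRing
  let b : Module.Basis (Fin 1) Rp (LocalizedModule S M) := Module.finBasisOfFinrankEq Rp _ hrk
  have hb : ∀ z, b.repr z 0 • b 0 = z := fun z => by
    conv_rhs => rw [← b.sum_repr z]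
    rw [Fin.sum_univ_one]
  obtain ⟨i, hi⟩ : ∃ i, IsUnit (b.repr (g (t i)) 0) := by
    by_contra! hc
    have hle : ∀ z : LocalizedModule S M, b.repr z 0 ∈ IsLocalRing.maximalIdeal Rp := by
      intro z
      induction z using LocalizedModule.induction_on with
      | h x s =>
        have hx : x ∈ Submodule.span R (Set.range t) := by rw [ht]; trivial
        have key : b.repr (g x) 0 ∈ IsLocalRing.maximalIdeal Rp := by
          induction hx using Submodule.span_induction with
          | mem y hy => obtain ⟨j, rfl⟩ := hy; exact hc j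
          | zero => simp
          | add y z _ _ hy hz => rw [map_add, map_add, Finsupp.add_apply]; exact add_mem hy hz
          | smul r y _ hy =>
            rw [map_smul, ← algebraMap_smul Rp r (g y), map_smul, Finsupp.smul_apply, smul_eq_mul]
            exact Ideal.mul_mem_left _ _ hy
        have e : LocalizedModule.mk x s = Localization.mk 1 s • g x := by
          rw [LocalizedModule.mkLinearMap_apply, LocalizedModule.mk_smul_mk, one_smul, mul_one]
        rw [e, map_smul, Finsupp.smul_apply, smul_eq_mul]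
        exact Ideal.mul_mem_left _ _ key
    have := hle (b 0)
    rw [b.repr_self, Finsupp.single_eq_same] at this
    exact (IsLocalRing.maximalIdeal.isMaximal Rp).ne_top ((Ideal.eq_top_iff_one _).2 this)
  have hbij : Function.Bijective
      (IsLocalizedModule.map S (Algebra.linearMap R Rp) g (LinearMap.toSpanSingleton R M (t i))) := by
    have heq : IsLocalizedModule.map S (Algebra.linearMap R Rp) g (LinearMap.toSpanSingleton R M (t i)) =
        (LinearMap.toSpanSingleton Rp _ (g (t i))).restrictScalars R := by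
      refine IsLocalizedModule.linearMap_ext S (Algebra.linearMap R Rp) g ?_
      rw [IsLocalizedModule.map_comp]
      ext
      simp
    rw [heq]
    have heq2 : ∀ c : Rp, c • g (t i) = (c * b.repr (g (t i)) 0) • b 0 := fun c => by rw [mul_smul, hb]
    constructor
    · intro c c' hcc
      have : c • g (t i) = c' • g (t i) := hcc
      rw [heq2, heq2] at this
      have := congrArg (fun z => b.repr z 0) this
      simp only [map_smul, b.repr_self, Finsupp.smul_apply, Finsupp.single_eq_same, smul_eq_mul, mul_one] at this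
      exact hi.mul_right_cancel this
    · intro z
      refine ⟨b.repr z 0 * ↑hi.unit⁻¹, ?_⟩
      show (b.repr z 0 * ↑hi.unit⁻¹) • g (t i) = z
      rw [heq2, mul_assoc, IsUnit.val_inv_mul, mul_one, hb]
  obtain ⟨r, hr, hr'⟩ := exists_bijective_map_powers (f := Algebra.linearMap R Rp) (g := g) S _ hbij
  refine ⟨i, r, hr, ⟨fun x => ?_, fun a ha => ?_⟩⟩
  · obtain ⟨z, hz⟩ := (hr' r dvd_rfl).2 (LocalizedModule.mk x 1)
    induction z using LocalizedModule.induction_on with
    | h a s =>
      rw [LocalizedModule.map_mk, LocalizedModule.mk_eq] at hz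
      obtain ⟨u, hu⟩ := hz
      refine ⟨(u : R) * s, mul_mem u.2 s.2, (u : R) * a, ?_⟩
      simp only [one_smul, Submonoid.smul_def, LinearMap.toSpanSingleton_apply] at hu
      rw [mul_smul, mul_smul]
      exact hu.symm
  · have h0 : LocalizedModule.map (.powers r) (LinearMap.toSpanSingleton R M (t i)) (LocalizedModule.mk a 1) = 0 := by
      rw [LocalizedModule.map_mk, LinearMap.toSpanSingleton_apply, ha, LocalizedModule.zero_mk]
    have := (hr' r dvd_rfl).1 (h0.trans (map_zero _).symm)
    rw [← LocalizedModule.zero_mk 1, LocalizedModule.mk_eq] at this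
    obtain ⟨u, hu⟩ := this
    simp only [one_smul, smul_zero, Submonoid.smul_def, smul_eq_mul] at hu
    exact ⟨u, u.2, hu⟩

end alg

variable {R : CommRingCat.{u}} {L : (Spec R).Modules}

theorem res_top_smul (r : R) (x : Γ(L, ⊤)) (V : (Spec R).Opens) :
    resM L (le_top : V ≤ ⊤) (r • x) = (algebraMap R Γ(Spec R, V) r) • resM L le_top x :=
  (Scheme.Modules.map_smul_Spec (M := L) (homOfLE (le_top : V ≤ ⊤)).op r x).trans (algebraMap_smul _ r _).symm

/-- Where a section generates, it generates freely after localisation. -/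
theorem genAt_of_le_glocus [Coh.IsQCoh L] (a : Γ(L, ⊤)) (f : R) (hf : specBasicOpen f ≤ glocus L a) :
    GenAt (Submonoid.powers (f : R)) a := by
  have hg : IsGen L (specBasicOpen f) (resM L le_top a) := (le_glocus_iff a _).1 hf
  constructor
  · intro x
    obtain ⟨c, hc⟩ := (hg _ le_rfl).2 (resM L le_top x)
    obtain ⟨⟨b, ⟨_, n, rfl⟩⟩, hb⟩ := IsLocalization.surj (Submonoid.powers f) c
    have h1 : resM L (le_top : specBasicOpen f ≤ ⊤) (f ^ n • x - b • a) = 0 := by
      rw [map_sub, res_top_smul, res_top_smul, ← hc, ← hb, resM_self, mul_comm, mul_smul, sub_self]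
    obtain ⟨m, hm⟩ := spec_exists_pow_smul_eq_zero L f _ h1
    refine ⟨f ^ (m + n), ⟨m + n, rfl⟩, f ^ m * b, ?_⟩
    rw [smul_sub, sub_eq_zero, ← mul_smul, ← mul_smul, ← pow_add] at hm
    exact hm
  · intro b hb
    have h1 : algebraMap R Γ(Spec R, specBasicOpen f) b = 0 := (hg _ le_rfl).1 (by
      show _ • resM L _ (resM L _ a) = _ • resM L _ (resM L _ a)
      rw [resM_self, ← res_top_smul, hb, map_zero, zero_smul])
    obtain ⟨⟨s, hs⟩, e⟩ := (IsLocalization.map_eq_zero_iff (Submonoid.powers f) _ b).1 h1
    exact ⟨s, hs, e⟩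

theorem exists_genAt_of_cover [Coh.IsQCoh L] {I : Type*} (t : I → Γ(L, ⊤))
    (hcov : ∀ x : Spec R, ∃ i, x ∈ glocus L (t i)) (p : PrimeSpectrum R) :
    ∃ (i : I) (f : R), f ∉ p.asIdeal ∧ GenAt (Submonoid.powers f) (t i) := by
  obtain ⟨i, hi⟩ := hcov p
  obtain ⟨_, ⟨f, rfl⟩, hpf, hle⟩ := Opens.isBasis_iff_nbhd.1 PrimeSpectrum.isBasis_basic_opens hi
  exact ⟨i, f, hpf, genAt_of_le_glocus (t i) f hle⟩

theorem span_eq_top_of_cover [Coh.IsQCoh L] {I : Type*} (t : I → Γ(L, ⊤))
    (hcov : ∀ x : Spec R, ∃ i, x ∈ glocus L (t i)) : Submodule.span R (Set.range t) = ⊤ := by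
  refine Submodule.eq_top_iff'.2 fun x => ?_
  let J := (Submodule.span R (Set.range t)).colon {x}
  suffices hJ : J = ⊤ by
    have := Submodule.mem_colon_singleton.1 (hJ ▸ Submodule.mem_top : (1 : R) ∈ J)
    rwa [one_smul] at this
  by_contra hne
  obtain ⟨m, hm, hle⟩ := Ideal.exists_le_maximal _ hne
  obtain ⟨i, f, hf, hg⟩ := exists_genAt_of_cover t hcov ⟨m, hm.isPrime⟩
  obtain ⟨s, ⟨n, rfl⟩, a, e⟩ := hg.surj x
  refine hf (hm.isPrime.mem_of_pow_mem n (hle (Submodule.mem_colon_singleton.2 ?_)))
  rw [e]
  exact Submodule.smul_mem _ _ (Submodule.subset_span ⟨i, rfl⟩)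

/-- A global section generating freely after inverting `f` generates on `D(f)`. -/
theorem le_glocus_of_genAt [Coh.IsQCoh L] (a : Γ(L, ⊤)) (f : R) (h : GenAt (Submonoid.powers (f : R)) a) :
    specBasicOpen f ≤ glocus L a := by
  refine (le_glocus_iff a _).2 ?_
  let ι := {g : R // specBasicOpen g ≤ specBasicOpen f}
  have hbas : ∀ (V : (Spec R).Opens), V ≤ specBasicOpen f →
      V ≤ ⨆ g : {g : R // specBasicOpen g ≤ V}, specBasicOpen g.1 := fun V _ x hx => by
    obtain ⟨_, ⟨g, rfl⟩, hxg, hle⟩ := Opens.isBasis_iff_nbhd.1 PrimeSpectrum.isBasis_basic_opens hx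
    exact Opens.mem_iSup.2 ⟨⟨g, hle⟩, hxg⟩
  have hbij : ∀ g : R, specBasicOpen g ≤ specBasicOpen f →
      Function.Bijective (fun c : Γ(Spec R, specBasicOpen g) => c • resM L (le_top : specBasicOpen g ≤ ⊤) a) := by
    intro g hgf
    have hfu : IsUnit (algebraMap R Γ(Spec R, specBasicOpen g) f) := by
      have : IsUnit (algebraMap R Γ(Spec R, specBasicOpen f) f) := IsLocalization.Away.algebraMap_isUnit f
      exact (this.map (res hgf))
    have hgu : IsUnit (algebraMap R Γ(Spec R, specBasicOpen g) g) := IsLocalization.Away.algebraMap_isUnit g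
    constructor
    · intro c c' hcc
      rw [← sub_eq_zero]
      have hd : (c - c') • resM L (le_top : specBasicOpen g ≤ ⊤) a = 0 := by rw [sub_smul, sub_eq_zero]; exact hcc
      generalize c - c' = d at hd
      obtain ⟨⟨b, ⟨_, n, rfl⟩⟩, hb⟩ := IsLocalization.surj (Submonoid.powers g) d
      have h1 : resM L (le_top : specBasicOpen g ≤ ⊤) (b • a) = 0 := by
        rw [res_top_smul]; exact (congrArg (· • _) (hb.symm.trans (mul_comm _ _))).trans ((mul_smul _ _ _).trans ((congrArg _ hd).trans (smul_zero _)))
      obtain ⟨m, hm⟩ := spec_exists_pow_smul_eq_zero L g _ h1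
      rw [← mul_smul] at hm
      obtain ⟨_, ⟨k, rfl⟩, e⟩ := h.inj _ hm
      have e' := congrArg (algebraMap R Γ(Spec R, specBasicOpen g)) e
      simp only [map_mul, map_pow, map_zero] at e'
      have hb0 : algebraMap R Γ(Spec R, specBasicOpen g) b = 0 :=
        (hgu.pow m).mul_right_eq_zero.1 ((hfu.pow k).mul_right_eq_zero.1 e')
      exact (IsLocalization.map_units (M := Submonoid.powers g) Γ(Spec R, specBasicOpen g)
        ⟨_, n, rfl⟩).mul_left_eq_zero.1 (hb.trans hb0)
    · intro y
      obtain ⟨n, x, hx⟩ := spec_exists_pow_smul L g y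
      obtain ⟨_, ⟨k, rfl⟩, b, e⟩ := h.surj x
      refine ⟨((hfu.pow k).mul (hgu.pow n)).unit⁻¹ * algebraMap R _ b, ?_⟩
      show (_ * _) • _ = y
      rw [mul_smul, ← res_top_smul, ← e, res_top_smul, map_pow]
      rw [show resM L (le_top : specBasicOpen g ≤ ⊤) x = algebraMap R Γ(Spec R, specBasicOpen g) (g ^ n) • y from
        hx.trans (algebraMap_smul _ _ _).symm, map_pow, ← mul_smul, ← mul_smul, mul_assoc, IsUnit.val_inv_mul, one_smul]
  intro V hV
  have hres : ∀ {W : (Spec R).Opens} (hW : W ≤ V) (c : Γ(Spec R, V)),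
      resM L hW (c • resM L hV (resM L le_top a)) = res hW c • resM L (le_top : W ≤ ⊤) a := fun {W} hW c => by
    rw [resM_smul, resM_resM, resM_resM]
  constructor
  · intro c c' hcc
    refine TopCat.Sheaf.eq_of_locally_eq' (Spec R).sheaf (fun g : {g : R // specBasicOpen g ≤ V} => specBasicOpen g.1) V
      (fun g => homOfLE g.2) (hbas V hV) c c' fun g => (hbij g.1 (g.2.trans hV)).1 ?_
    exact ((hres g.2 c).symm.trans (congrArg _ hcc)).trans (hres g.2 c')
  · intro y
    choose c hc using fun g : {g : R // specBasicOpen g ≤ V} => (hbij g.1 (g.2.trans hV)).2 (resM L g.2 y)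
    obtain ⟨d, hd⟩ := (TopCat.Sheaf.existsUnique_gluing' (Spec R).sheaf
      (fun g : {g : R // specBasicOpen g ≤ V} => specBasicOpen g.1) V (fun g => homOfLE g.2) (hbas V hV) c
      fun g g' => by
        have hb : ∀ W : (Spec R).Opens, W = specBasicOpen (g.1 * g'.1) → W ≤ specBasicOpen f →
            Function.Injective (fun c : Γ(Spec R, W) => c • resM L (le_top : W ≤ ⊤) a) := by
          rintro W rfl hW
          exact (hbij _ hW).1
        refine hb _ (PrimeSpectrum.basicOpen_mul g.1 g'.1).symm (inf_le_left.trans (g.2.trans hV)) ?_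
        have h1 := congrArg (resM L (inf_le_left : specBasicOpen g.1 ⊓ specBasicOpen g'.1 ≤ _)) (hc g)
        have h2 := congrArg (resM L (inf_le_right : specBasicOpen g.1 ⊓ specBasicOpen g'.1 ≤ _)) (hc g')
        simp only [resM_smul, resM_resM] at h1 h2
        exact h1.trans h2.symm).exists
    refine ⟨d, TopCat.Sheaf.eq_of_locally_eq' (⟨L.presheaf, L.isSheaf⟩ : TopCat.Sheaf Ab (Spec R).carrier)
      (fun g : {g : R // specBasicOpen g ≤ V} => specBasicOpen g.1) V (fun g => homOfLE g.2) (hbas V hV) _ _
      fun g => ?_⟩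
    refine (hres g.2 d).trans ?_
    rw [show res g.2 d = c g from hd g]
    exact hc g

end Groth.Agent.UPLib
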