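import Groth.Agent.UPLib.ProjSpace
import Groth.Agent.UPLib.SpecInv

/-!
# Sections of projective space over an affine base
-/

set_option autoImplicit false
set_option backward.isDefEq.respectTransparency.types false
set_option maxHeartbeats 1000000

universe u

open AlgebraicGeometry CategoryTheory TopologicalSpace Opposite
open Groth.Agent.Coherent Groth.Agent.PicLib Groth.Agent.AmpleLib

namespace Groth.Agent.UPLib

section tilde

variable {R : CommRingCat.{u}}

theorem genAt_congr {M N : Type*} [AddCommGroup M] [Module R M] [AddCommGroup N] [Module R N] (e : M ≃ₗ[R] N)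
    {S : Submonoid R} {t : M} (h : GenAt S t) : GenAt S (e t) := by
  refine ⟨fun x => ?_, fun a ha => h.inj a (e.injective (by rw [map_smul, ha, map_zero]))⟩
  obtain ⟨s, hs, a, he⟩ := h.surj (e.symm x)
  exact ⟨s, hs, a, by rw [← map_smul, ← he, map_smul, e.apply_symm_apply]⟩

/-- The global sections of `M~`. -/
noncomputable def topEquiv (M : ModuleCat.{u} R) : M ≃ₗ[R] Γ(tilde M, ⊤) := (tilde.isoTop M).toLinearEquiv

theorem invertible_tilde_of_genAt {I : Type*} (M : ModuleCat.{u} R) (t : I → M)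
    (h : ∀ p : PrimeSpectrum R, ∃ (i : I) (f : R), f ∉ p.asIdeal ∧ GenAt (Submonoid.powers f) (t i)) :
    PicF.IsInvertible (tilde M) ∧ ∀ x : Spec R, ∃ i, x ∈ glocus (tilde M) (topEquiv M (t i)) := by
  haveI : Coh.IsQCoh (tilde M) := inferInstanceAs ((tilde M).IsQuasicoherent)
  have key : ∀ x : Spec R, ∃ i, x ∈ glocus (tilde M) (topEquiv M (t i)) := fun x => by
    obtain ⟨i, f, hf, hg⟩ := h x
    exact ⟨i, le_glocus_of_genAt _ f (genAt_congr (topEquiv M) hg) (show x ∈ specBasicOpen f from hf)⟩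
  exact ⟨isInvertible_of_gens fun x => ⟨_, (key x).choose_spec, _, isGen_glocus _⟩, key⟩

/-- A linear map of global sections extends to the quasi-coherent modules. -/
theorem exists_hom_of_linearEquiv {L N : (Spec R).Modules} [Coh.IsQCoh L] [Coh.IsQCoh N]
    (e : Γ(L, ⊤) ≃ₗ[R] Γ(N, ⊤)) : ∃ τ : L ≅ N, ∀ x : Γ(L, ⊤), τ.hom.app ⊤ x = e x := by
  haveI : IsIso L.fromTildeΓ := inferInstance
  haveI : IsIso N.fromTildeΓ := inferInstance
  let eM : (modulesSpecToSheaf.obj L).presheaf.obj (op ⊤) ≅ (modulesSpecToSheaf.obj N).presheaf.obj (op ⊤) :=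
    e.toModuleIso
  let τN := asIso N.fromTildeΓ
  let τ : L ≅ N := (asIso L.fromTildeΓ).symm ≪≫ (tilde.functor R).mapIso eM ≪≫ τN
  refine ⟨τ, fun x => ?_⟩
  have h0 : ∀ (P : (Spec R).Modules) (y : Γ(P, ⊤)),
      P.fromTildeΓ.app ⊤ (tilde.toOpen ((modulesSpecToSheaf.obj P).presheaf.obj (op ⊤)) ⊤ y) = y := fun P y => by
    refine (ConcreteCategory.congr_hom (Scheme.Modules.toOpen_fromTildeΓ_app P ⊤) y).trans ?_
    exact ConcreteCategory.congr_hom ((modulesSpecToSheaf.obj P).obj.map_id (op ⊤)) y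
  have h1 : L.fromTildeΓ ≫ τ.hom = tilde.map eM.hom ≫ N.fromTildeΓ := (IsIso.hom_inv_id_assoc L.fromTildeΓ _).trans rfl
  have h2 := ConcreteCategory.congr_hom (congrArg (fun φ => Scheme.Modules.Hom.app φ ⊤) h1)
    (tilde.toOpen ((modulesSpecToSheaf.obj L).presheaf.obj (op ⊤)) ⊤ x)
  refine (congrArg (τ.hom.app ⊤) (h0 L x)).symm.trans (h2.trans ?_)
  refine (congrArg (N.fromTildeΓ.app ⊤) (ConcreteCategory.congr_hom (tilde.toOpen_map_app eM.hom ⊤) x)).trans ?_
  exact h0 N (e x)

end tilde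

variable {R : CommRingCat.{u}} (n : ℕ)

theorem toGlobal_id (r : R) :
    ProjUP.toGlobal (𝟙 (Spec R)) r = (Scheme.ΓSpecIso R).inv r := rfl

theorem smul_top_def {L : (Spec R).Modules} (r : R) (x : Γ(L, ⊤)) :
    (show (R : Type u) from r) • x = (Scheme.ΓSpecIso R).inv r • x := by
  rw [Scheme.Modules.smul_Spec_def]
  exact congrArg (· • x) (ConcreteCategory.congr_hom ((Spec R).presheaf.map_id (op ⊤)) _)

variable (s : Spec R ⟶ CohB1.ProjSpace n R)

/-- The pulled back coordinates. -/
noncomputable abbrev secT (i : Fin (n + 1)) :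
    Γ((Scheme.Modules.pullback s).obj (Twist.twistProjSpace n R 1), ⊤) :=
  ProjUP.pullSec s (Twist.twistProjSpace n R 1) (ProjUP.coord n R i)

theorem mem_secKernel (c : Fin (n + 1) → R) :
    c ∈ ProjUP.secKernel n R s ↔ ∑ i, (show (R : Type u) from c i) • secT n s i = 0 := by
  simp only [smul_top_def]
  exact Iff.rfl

theorem exists_degOne_projSpace (x : ProjectiveSpectrum (CohB1.polyGrading n R)) :
    ∃ i, MvPolynomial.X i ∉ x.asHomogeneousIdeal.toIdeal := by
  obtain ⟨f, hf, hx⟩ := exists_degOne (adjoin_one_eq_top (linForm_mem (R := R) n) (isSymmetricAlgebra_linForm n)) x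
  by_contra! h
  obtain ⟨m, rfl⟩ := exists_eq_ι (linForm_mem (R := R) n) (isSymmetricAlgebra_linForm n) hf
  rw [linForm, Module.Basis.constr_apply_fintype] at hx
  exact hx (sum_mem fun i _ => by rw [Algebra.smul_def]; exact Ideal.mul_mem_left _ _ (h i))

theorem secT_spec : PicF.IsInvertible ((Scheme.Modules.pullback s).obj (Twist.twistProjSpace n R 1)) ∧
    ∀ x, ∃ i, x ∈ glocus _ (secT n s i) := by
  have hgen := adjoin_one_eq_top (linForm_mem (R := R) n) (isSymmetricAlgebra_linForm n)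
  refine ⟨PicLoc.isInvertible_pullback _ (TwistLib.G.isInvertible_twist (exists_degOne hgen) ((1 : ℕ) : ℤ)), fun x => ?_⟩
  obtain ⟨i, hi⟩ := exists_degOne_projSpace n (s.base x)
  refine ⟨i, ?_⟩
  exact (preimage_basicOpen_eq hgen s (MvPolynomial.isHomogeneous_X R i)).ge hi

theorem sum_toGlobal_eq {L : (Spec R).Modules} (c : Fin (n + 1) → R) (t : Fin (n + 1) → Γ(L, ⊤)) :
    ∑ i, (show (R : Type u) from c i) • t i =
      Fintype.linearCombination (R : Type u) t c := rfl

theorem secT_span : Submodule.span (R : Type u) (Set.range (secT n s)) = ⊤ := by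
  haveI := AmpleLib.isQCoh_of_isInvertible (secT_spec n s).1
  exact span_eq_top_of_cover _ (secT_spec n s).2

theorem section_ext {s₁ s₂ : Spec R ⟶ CohB1.ProjSpace n R}
    (h₁ : s₁ ≫ CohB1.ProjSpace.toSpec n R = 𝟙 _) (h₂ : s₂ ≫ CohB1.ProjSpace.toSpec n R = 𝟙 _)
    (h : ProjUP.secKernel n R s₁ = ProjUP.secKernel n R s₂) : s₁ = s₂ := by
  haveI := AmpleLib.isQCoh_of_isInvertible (secT_spec n s₁).1
  haveI := AmpleLib.isQCoh_of_isInvertible (secT_spec n s₂).1
  let π₁ := Fintype.linearCombination (R : Type u) (secT n s₁)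
  let π₂ := Fintype.linearCombination (R : Type u) (secT n s₂)
  have hs₁ : Function.Surjective π₁ := by
    rw [← LinearMap.range_eq_top, Fintype.range_linearCombination, secT_span]
  have hs₂ : Function.Surjective π₂ := by
    rw [← LinearMap.range_eq_top, Fintype.range_linearCombination, secT_span]
  have hker : LinearMap.ker π₁ = LinearMap.ker π₂ := Submodule.ext fun c => by
    show π₁ c = 0 ↔ π₂ c = 0
    exact ((mem_secKernel n s₁ c).symm.trans (h ▸ Iff.rfl)).trans (mem_secKernel n s₂ c)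
  let e : Γ((Scheme.Modules.pullback s₁).obj (Twist.twistProjSpace n R 1), ⊤) ≃ₗ[(R : Type u)]
      Γ((Scheme.Modules.pullback s₂).obj (Twist.twistProjSpace n R 1), ⊤) :=
    (π₁.quotKerEquivOfSurjective hs₁).symm ≪≫ₗ Submodule.quotEquivOfEq _ _ hker ≪≫ₗ
      π₂.quotKerEquivOfSurjective hs₂
  obtain ⟨τ, hτ⟩ := exists_hom_of_linearEquiv e
  refine eq_of_iso_projSpace n (h₁.trans h₂.symm) τ fun i => (hτ _).trans ?_
  classical
  have he : ∀ c, e (π₁ c) = π₂ c := fun c => by
    show π₂.quotKerEquivOfSurjective hs₂ (Submodule.quotEquivOfEq _ _ hker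
      ((π₁.quotKerEquivOfSurjective hs₁).symm (π₁ c))) = _
    rw [LinearMap.quotKerEquivOfSurjective_symm_apply, Submodule.quotEquivOfEq_mk,
      LinearMap.quotKerEquivOfSurjective_apply_mk]
  have := he (Pi.single i 1)
  simp only [π₁, π₂, Fintype.linearCombination_apply_single, one_smul] at this
  exact this

theorem section_exists_iff (F : Submodule R (Fin (n + 1) → R)) :
    (∃ s : Spec R ⟶ CohB1.ProjSpace n R,
        s ≫ CohB1.ProjSpace.toSpec n R = 𝟙 _ ∧ ProjUP.secKernel n R s = F) ↔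
      (Module.Projective R ((Fin (n + 1) → R) ⧸ F) ∧
        ∀ p : PrimeSpectrum R, Module.finrank (Localization.AtPrime p.asIdeal)
          (LocalizedModule p.asIdeal.primeCompl ((Fin (n + 1) → R) ⧸ F)) = 1) := by
  classical
  constructor
  · rintro ⟨s, -, rfl⟩
    haveI := AmpleLib.isQCoh_of_isInvertible (secT_spec n s).1
    let π := Fintype.linearCombination (R : Type u) (secT n s)
    have hs : Function.Surjective π := by
      rw [← LinearMap.range_eq_top, Fintype.range_linearCombination, secT_span]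
    have hker : ProjUP.secKernel n R s = LinearMap.ker π := Submodule.ext fun c => mem_secKernel n s c
    rw [hker]
    refine projective_of_genAt (R := R) fun p => ?_
    obtain ⟨i, f, hf, hg⟩ := exists_genAt_of_cover (secT n s) (secT_spec n s).2 p
    exact ⟨f, _, hf, genAt_congr (R := R) (π.quotKerEquivOfSurjective hs).symm hg⟩
  · rintro ⟨hproj, hrk⟩
    let Q : ModuleCat.{u} R := ModuleCat.of R ((Fin (n + 1) → R) ⧸ F)
    let t : Fin (n + 1) → Q := fun i => F.mkQ (Pi.single i 1)
    have hmk : ∀ c : Fin (n + 1) → R, F.mkQ c = ∑ i, c i • F.mkQ (Pi.single i 1) := fun c => by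
      conv_lhs => rw [pi_eq_sum_univ' c]
      simp [map_sum, map_smul]
    have ht : Submodule.span R (Set.range fun i => F.mkQ (Pi.single i 1)) = ⊤ := by
      refine Submodule.eq_top_iff'.2 fun x => ?_
      obtain ⟨c, rfl⟩ := F.mkQ_surjective x
      rw [hmk]
      exact sum_mem fun i _ => Submodule.smul_mem _ _ (Submodule.subset_span ⟨i, rfl⟩)
    obtain ⟨hL, hcov⟩ := invertible_tilde_of_genAt Q t fun p => exists_genAt _ ht p (hrk p)
    obtain ⟨s, hs, τ, hτ⟩ := exists_hom_projSpace n (𝟙 _) hL (fun i => topEquiv Q (t i)) hcov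
    refine ⟨s, hs, Submodule.ext fun c => (mem_secKernel n s c).trans ?_⟩
    have happ : τ.hom.app ⊤ (∑ i, (show (R : Type u) from c i) • secT n s i) =
        topEquiv Q (F.mkQ c) := by
      rw [hmk, map_sum, map_sum]
      refine Finset.sum_congr rfl fun i _ => ?_
      rw [smul_top_def, Scheme.Modules.Hom.app_smul, hτ, ← smul_top_def]
      exact (map_smul (topEquiv Q) _ _).symm
    have hbij := ConcreteCategory.bijective_of_isIso (τ.hom.app (⊤ : (Spec R).Opens))
    rw [← (map_eq_zero_iff (τ.hom.app ⊤).hom hbij.1), happ, LinearEquiv.map_eq_zero_iff]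
    exact Submodule.Quotient.mk_eq_zero F

end Groth.Agent.UPLib
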