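import Groth.Agent.UPLib.Sym

/-!
# Morphisms to projective space over an affine base
-/

set_option autoImplicit false
set_option backward.isDefEq.respectTransparency.types false
set_option maxHeartbeats 1000000

universe u

open AlgebraicGeometry CategoryTheory TopologicalSpace Opposite
open Groth.Agent.PicLib Groth.Agent.AmpleLib

namespace Groth.Agent.UPLib

variable {R : Type u} [CommRing R] (n : ℕ)

/-- The linear forms in `n + 1` variables. -/
noncomputable def linForm : (Fin (n + 1) → R) →ₗ[R] MvPolynomial (Fin (n + 1)) R :=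
  (Pi.basisFun R (Fin (n + 1))).constr R MvPolynomial.X

theorem linForm_single (i : Fin (n + 1)) : linForm n (Pi.single i (1 : R)) = MvPolynomial.X i := by
  classical
  rw [← Pi.basisFun_apply, linForm, Module.Basis.constr_basis]

theorem linForm_mem (m : Fin (n + 1) → R) : linForm n m ∈ CohB1.polyGrading n R 1 := by
  rw [linForm, Module.Basis.constr_apply_fintype]
  exact sum_mem fun i _ => Submodule.smul_mem _ _ (MvPolynomial.isHomogeneous_X R i)

theorem isSymmetricAlgebra_linForm : IsSymmetricAlgebra (linForm (R := R) n) :=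
  SymmetricAlgebra.IsSymmetricAlgebra.mvPolynomial _ _

theorem linForm_single' (i : Fin (n + 1)) :
    (⟨linForm n (Pi.single i (1 : R)), linForm_mem n _⟩ : CohB1.polyGrading n R 1) =
      ⟨MvPolynomial.X i, MvPolynomial.isHomogeneous_X R i⟩ :=
  Subtype.ext (linForm_single n i)

variable {X : Scheme.{u}}

theorem exists_hom_projSpace (q : X ⟶ Spec (CommRingCat.of R)) {L : X.Modules} (hL : PicF.IsInvertible L)
    (s : Fin (n + 1) → ProjUP.Γm L) (hcov : ∀ x : X, ∃ i, x ∈ glocus L (s i)) :
    ∃ (r : X ⟶ CohB1.ProjSpace n R) (_ : r ≫ CohB1.ProjSpace.toSpec n R = q)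
      (τ : (Scheme.Modules.pullback r).obj (Twist.twistProjSpace n R 1) ≅ L),
      ∀ i, τ.hom.app ⊤ (ProjUP.pullSec r (Twist.twistProjSpace n R 1) (ProjUP.coord n R i)) = s i := by
  classical
  let s' : Fin (n + 1) → Γ(L, ⊤) := s
  let v : (Fin (n + 1) → R) →+ Γ(L, ⊤) :=
    { toFun := fun c => ∑ i, ProjUP.toGlobal q (c i) • s' i
      map_zero' := by simp
      map_add' := fun c c' => by simp [add_smul, Finset.sum_add_distrib] }
  have hv : ∀ (a : R) (c : Fin (n + 1) → R), v (a • c) = ProjUP.toGlobal q a • v c := fun a c => by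
    show ∑ i, ProjUP.toGlobal q ((a • c) i) • s' i = ProjUP.toGlobal q a • ∑ i, ProjUP.toGlobal q (c i) • s' i
    rw [Finset.smul_sum]
    refine Finset.sum_congr rfl fun i _ => ?_
    rw [Pi.smul_apply, smul_eq_mul, map_mul, mul_smul]
  have hve : ∀ i, v (Pi.single i 1) = s' i := fun i => by
    show ∑ j, ProjUP.toGlobal q ((Pi.single i (1 : R) : Fin (n + 1) → R) j) • s' j = s' i
    rw [Finset.sum_eq_single i]
    · rw [Pi.single_eq_same, map_one, one_smul]
    · intro j _ hji
      rw [Pi.single_eq_of_ne hji, map_zero, zero_smul]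
    · simp
  obtain ⟨r, hr, τ, hτ⟩ := exists_hom_twist (𝒮 := CohB1.polyGrading n R) (ι := linForm n) (linForm_mem n) (isSymmetricAlgebra_linForm n) q hL v hv fun x => by
    obtain ⟨i, hi⟩ := hcov x
    exact ⟨Pi.single i 1, by rw [hve]; exact hi⟩
  refine ⟨r, hr, τ, fun i => ?_⟩
  refine Eq.trans ?_ ((hτ (Pi.single i 1)).trans (hve i))
  rw [linForm_single' n i]
  rfl

theorem eq_of_iso_projSpace {r r' : X ⟶ CohB1.ProjSpace n R}
    (h0 : r ≫ CohB1.ProjSpace.toSpec n R = r' ≫ CohB1.ProjSpace.toSpec n R)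
    (τ : (Scheme.Modules.pullback r).obj (Twist.twistProjSpace n R 1) ≅
      (Scheme.Modules.pullback r').obj (Twist.twistProjSpace n R 1))
    (hτ : ∀ i, τ.hom.app ⊤ (ProjUP.pullSec r (Twist.twistProjSpace n R 1) (ProjUP.coord n R i)) =
      ProjUP.pullSec r' (Twist.twistProjSpace n R 1) (ProjUP.coord n R i)) :
    r = r' := by
  classical
  have hsym := isSymmetricAlgebra_linForm (R := R) n
  haveI := mono_specMap_zero (linForm_mem n) hsym
  refine eq_of_iso_of_span (adjoin_one_eq_top (linForm_mem n) hsym) ?_ τ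
    (Set.range (MvPolynomial.X : Fin (n + 1) → MvPolynomial (Fin (n + 1)) R))
    (Set.range_subset_iff.2 fun i => MvPolynomial.isHomogeneous_X R i) ?_ ?_
  · exact (cancel_mono (Spec.map (CommRingCat.ofHom (algebraMap R (CohB1.polyGrading n R 0))))).1
      ((Category.assoc _ _ _).trans (h0.trans (Category.assoc _ _ _).symm))
  · intro a ha
    obtain ⟨m, rfl⟩ := exists_eq_ι (linForm_mem n) hsym ha
    rw [linForm, Module.Basis.constr_apply_fintype]
    refine sum_mem fun i _ => ?_
    have e : ((Pi.basisFun R (Fin (n + 1))).equivFun m i) • (MvPolynomial.X i : MvPolynomial (Fin (n + 1)) R) =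
        (algebraMap R (CohB1.polyGrading n R 0) ((Pi.basisFun R (Fin (n + 1))).equivFun m i)) •
          (MvPolynomial.X i : MvPolynomial (Fin (n + 1)) R) := by
      rw [Algebra.smul_def, Algebra.smul_def]
      rfl
    rw [e]
    exact Submodule.smul_mem _ _ (Submodule.subset_span ⟨i, rfl⟩)
  · rintro _ ha ⟨i, rfl⟩
    exact hτ i

end Groth.Agent.UPLib
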