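import Groth.Agent.UPLib.Exists
import Groth.Agent.QCohLoc.Basic
import Groth.Prelude.Def_ProjUP
import Mathlib.LinearAlgebra.SymmetricAlgebra.Basis

/-!
# Morphisms to `Proj` of a symmetric algebra
-/

set_option autoImplicit false
set_option linter.unusedSectionVars false
set_option backward.isDefEq.respectTransparency.types false
set_option maxHeartbeats 400000

universe u

open AlgebraicGeometry CategoryTheory TopologicalSpace Opposite
open Groth.Agent.Coherent Groth.Agent.PicLib Groth.Agent.AmpleLib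

namespace Groth.Agent.UPLib

section sym

variable {A : Type u} [CommRing A] {S : Type u} [CommRing S] [Algebra A S] {𝒮 : ℕ → Submodule A S}
  [GradedAlgebra 𝒮] {M : Type u} [AddCommGroup M] [Module A M] {ι : M →ₗ[A] S}
  (hι : ∀ m : M, ι m ∈ 𝒮 1) (hsym : IsSymmetricAlgebra ι)

include hsym in
theorem adjoin_range_eq_top : Algebra.adjoin A (Set.range ι) = ⊤ := by
  refine Algebra.eq_top_iff.2 fun s => ?_
  induction s using hsym.induction with
  | algebraMap r => exact Subalgebra.algebraMap_mem _ r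
  | ι x => exact Algebra.subset_adjoin ⟨x, rfl⟩
  | mul a b ha hb => exact mul_mem ha hb
  | add a b ha hb => exact add_mem ha hb

include hι hsym in
theorem adjoin_one_eq_top : Algebra.adjoin (𝒮 0) (𝒮 1 : Set S) = ⊤ := by
  refine Algebra.eq_top_iff.2 fun s => ?_
  induction s using hsym.induction with
  | algebraMap r => exact Subalgebra.algebraMap_mem (Algebra.adjoin (𝒮 0) (𝒮 1 : Set S)) (algebraMap A (𝒮 0) r)
  | ι x => exact Algebra.subset_adjoin (hι x)
  | mul a b ha hb => exact mul_mem ha hb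
  | add a b ha hb => exact add_mem ha hb

include hι hsym in
theorem proj_mem (s : S) :
    GradedAlgebra.proj 𝒮 0 s ∈ LinearMap.range (Algebra.linearMap A S) ∧
      GradedAlgebra.proj 𝒮 1 s ∈ LinearMap.range ι := by
  have hs : s ∈ Subalgebra.toSubmodule (Algebra.adjoin A (Set.range ι)) := by
    rw [adjoin_range_eq_top hsym]; trivial
  rw [Algebra.adjoin_eq_span] at hs
  have hmon : ∀ y ∈ Submonoid.closure (Set.range ι), ∃ k, y ∈ 𝒮 k ∧ (k = 0 → y = 1) ∧ (k = 1 → y ∈ LinearMap.range ι) := by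
    intro y hy
    induction hy using Submonoid.closure_induction_left with
    | one => exact ⟨0, SetLike.GradedOne.one_mem, fun _ => rfl, by simp⟩
    | mul_left b hb z _ ih =>
      obtain ⟨m, rfl⟩ := hb
      obtain ⟨k, hk, h0, -⟩ := ih
      refine ⟨1 + k, SetLike.mul_mem_graded (hι m) hk, by omega, fun h => ⟨m, ?_⟩⟩
      rw [h0 (by omega), mul_one]
  induction hs using Submodule.span_induction with
  | mem z hz =>
    obtain ⟨k, hk, h0, h1⟩ := hmon z hz
    refine ⟨?_, ?_⟩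
    · by_cases h : k = 0
      · subst h
        rw [GradedAlgebra.proj_apply, DirectSum.decompose_of_mem_same 𝒮 hk, h0 rfl]
        exact ⟨1, map_one (algebraMap A S)⟩
      · rw [GradedAlgebra.proj_apply, DirectSum.decompose_of_mem_ne 𝒮 hk h]; exact zero_mem _
    · by_cases h : k = 1
      · subst h
        rw [GradedAlgebra.proj_apply, DirectSum.decompose_of_mem_same 𝒮 hk]
        exact h1 rfl
      · rw [GradedAlgebra.proj_apply, DirectSum.decompose_of_mem_ne 𝒮 hk h]; exact zero_mem _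
  | zero => simp
  | add z w _ _ hz hw => rw [map_add, map_add]; exact ⟨add_mem hz.1 hw.1, add_mem hz.2 hw.2⟩
  | smul r z _ hz => rw [map_smul, map_smul]; exact ⟨Submodule.smul_mem _ r hz.1, Submodule.smul_mem _ r hz.2⟩

include hι hsym in
theorem exists_eq_ι {a : S} (ha : a ∈ 𝒮 1) : ∃ m, ι m = a := by
  have h := (proj_mem hι hsym a).2
  rwa [GradedAlgebra.proj_apply, DirectSum.decompose_of_mem_same 𝒮 ha] at h

include hι hsym in
theorem exists_eq_algebraMap {a : S} (ha : a ∈ 𝒮 0) : ∃ r, algebraMap A S r = a := by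
  have h := (proj_mem hι hsym a).1
  rwa [GradedAlgebra.proj_apply, DirectSum.decompose_of_mem_same 𝒮 ha] at h

include hι hsym in
theorem mono_specMap_zero : Mono (Spec.map (CommRingCat.ofHom (algebraMap A (𝒮 0)))) := by
  have hs : Function.Surjective (algebraMap A (𝒮 0)) := fun a => by
    obtain ⟨r, hr⟩ := exists_eq_algebraMap hι hsym a.2
    exact ⟨r, Subtype.ext hr⟩
  haveI := IsClosedImmersion.spec_of_surjective (CommRingCat.ofHom (algebraMap A (𝒮 0))) hs
  infer_instance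

end sym

variable {X : Scheme.{u}}

theorem eq_toSpecΓ_toGlobal {A : Type u} [CommRing A] (q : X ⟶ Spec (CommRingCat.of A)) :
    X.toSpecΓ ≫ Spec.map (CommRingCat.ofHom (ProjUP.toGlobal q)) = q := by
  have h := Scheme.toSpecΓ_naturality q
  rw [show CommRingCat.ofHom (ProjUP.toGlobal q) = (Scheme.ΓSpecIso _).inv ≫ q.appTop from rfl, Spec.map_comp,
    ← Category.assoc, ← h, Category.assoc]
  simp [← Spec.map_comp]

/-- Generating global sections: near each point one of them is a generator. -/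
theorem exists_mem_glocus {L : X.Modules} (hL : PicF.IsInvertible L) {I : Type*} {s : I → ProjUP.Γm L}
    (hs : ProjUP.GeneratedBy L s) (x : X) : ∃ i, x ∈ glocus L (s i) := by
  by_contra! hc
  obtain ⟨W, hxW, g, hg⟩ := PicLib.exists_isGen hL x
  let γ := L.presheaf.germ W x hxW g
  have hmem : ∀ i, ∃ t ∈ IsLocalRing.maximalIdeal (X.presheaf.stalk x),
      (L.presheaf.germ ⊤ x trivial).hom (s i) = t • γ := by
    intro i
    let c := hg.coef le_rfl (resM L le_top (show Γ(L, ⊤) from s i))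
    refine ⟨X.presheaf.germ W x hxW c, ?_, ?_⟩
    · have h : x ∉ X.basicOpen c := by
        rw [← glocus_inf _ hg]; exact fun h => hc i h.1
      rwa [IsLocalRing.mem_maximalIdeal, mem_nonunits_iff, ← Scheme.mem_basicOpen]
    · have h := congrArg (L.presheaf.germ W x hxW) (hg.coef_spec le_rfl (resM L le_top (show Γ(L, ⊤) from s i)))
      rw [Groth.Agent.QCohLoc.germ_smul', resM_self] at h
      exact (TopCat.Presheaf.germ_res_apply L.presheaf (homOfLE (le_top : W ≤ ⊤)) x hxW _).symm.trans h.symm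
  have hle : ∀ z ∈ Submodule.span (X.presheaf.stalk x) (Set.range fun i => (L.presheaf.germ ⊤ x trivial).hom (s i)),
      ∃ t ∈ IsLocalRing.maximalIdeal (X.presheaf.stalk x), z = t • γ := by
    intro z hz
    induction hz using Submodule.span_induction with
    | mem z hz => obtain ⟨i, rfl⟩ := hz; exact hmem i
    | zero => exact ⟨0, zero_mem _, (zero_smul _ _).symm⟩
    | add z w _ _ hz hw =>
      obtain ⟨t, ht, rfl⟩ := hz
      obtain ⟨t', ht', rfl⟩ := hw
      exact ⟨t + t', add_mem ht ht', (add_smul t t' γ).symm⟩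
    | smul r z _ hz =>
      obtain ⟨t, ht, rfl⟩ := hz
      exact ⟨r * t, Ideal.mul_mem_left _ r ht, (mul_smul r t γ).symm⟩
  obtain ⟨t, ht, hγ⟩ := hle γ (by rw [hs x]; trivial)
  have h0 : (1 - t) • γ = 0 := by rw [sub_smul, one_smul, ← hγ, sub_self]
  have hu : IsUnit (1 - t) := (IsLocalRing.isUnit_or_isUnit_one_sub_self t).resolve_left ht
  have hγ0 : γ = 0 := hu.smul_eq_zero.1 h0
  obtain ⟨V, hxV, i, j, e⟩ := L.presheaf.germ_eq x hxW hxW g 0 (hγ0.trans (map_zero _).symm)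
  have h10 : (1 : Γ(X, V)) = 0 := (hg V i.le).1 (by
    show (1 : Γ(X, V)) • resM L i.le g = (0 : Γ(X, V)) • resM L i.le g
    rw [one_smul, zero_smul]
    exact e.trans (map_zero _))
  have hb := Scheme.basicOpen_of_isUnit (U := V) X (f := 0) (h10 ▸ isUnit_one)
  rw [Scheme.basicOpen_zero] at hb
  exact (hb.ge hxV).elim

variable {A : Type u} [CommRing A] {S : Type u} [CommRing S] [Algebra A S] {𝒮 : ℕ → Submodule A S}
  [GradedAlgebra 𝒮] {M : Type u} [AddCommGroup M] [Module A M] {ι : M →ₗ[A] S}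

theorem exists_hom_sym (hι : ∀ m : M, ι m ∈ 𝒮 1) (hsym : IsSymmetricAlgebra ι)
    (q : X ⟶ Spec (CommRingCat.of A)) {L : X.Modules} (hL : PicF.IsInvertible L)
    (v : M →+ Γ(L, ⊤)) (hv : ∀ (a : A) (m : M), v (a • m) = ProjUP.toGlobal q a • v m)
    (hcov : ∀ x : X, ∃ m, x ∈ glocus L (v m)) :
    ∃ r : X ⟶ Proj 𝒮, r ≫ Proj.toSpecZero 𝒮 ≫ Spec.map (CommRingCat.ofHom (algebraMap A (𝒮 0))) = q ∧
      ∃ τ : (Scheme.Modules.pullback r).obj (GrTwist.twist 𝒮 ((1 : ℕ) : ℤ)) ≅ L,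
        ∀ m : M, τ.hom.app ⊤ (PicLib.pullSec r (sec (ι m) (hι m))) = v m := by
  have hΦ : ∀ (W : X.Opens) (g : Γ(L, W)), IsGen L W g → ∃ Φ : S →+* Γ(X, W),
      (∀ a : A, Φ (algebraMap A S a) = res (le_top : W ≤ ⊤) (ProjUP.toGlobal q a)) ∧
        ∀ m : M, Φ (ι m) • g = resM L le_top (v m) := by
    intro W g hg
    letI : Algebra A Γ(X, W) := ((res (le_top : W ≤ ⊤)).comp (ProjUP.toGlobal q)).toAlgebra
    let l : M →ₗ[A] Γ(X, W) :=
      { toFun := fun m => hg.coef le_rfl (resM L le_top (v m))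
        map_add' := fun m m' => by rw [map_add, map_add, hg.coef_add]
        map_smul' := fun a m => by
          rw [hv, resM_smul, hg.coef_smul]
          rfl }
    refine ⟨(hsym.lift l).toRingHom, fun a => ?_, fun m => ?_⟩
    · exact (hsym.lift l).commutes a
    · show hsym.lift l (ι m) • g = _
      rw [hsym.lift_eq]
      have h := hg.coef_spec le_rfl (resM L le_top (v m))
      rwa [resM_self] at h
  have hwd : ∀ m m' : M, ι m = ι m' → v m = v m' := by
    intro m m' h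
    refine AmpleLib.sec_ext L _ _ fun x _ => ?_
    obtain ⟨W, hxW, g, hg⟩ := PicLib.exists_isGen hL x
    obtain ⟨Φ, -, hΦ1⟩ := hΦ W g hg
    refine ⟨W, le_top, hxW, ?_⟩
    rw [← hΦ1, ← hΦ1, h]
  choose pre hpre using fun a : 𝒮 1 => exists_eq_ι hι hsym a.2
  have hvpre : ∀ m, v (pre ⟨ι m, hι m⟩) = v m := fun m => hwd _ _ (hpre _)
  let ε : S →ₐ[A] A := hsym.lift 0
  let ρ : 𝒮 0 →+* Γ(X, ⊤) :=
    { toFun := fun a => ProjUP.toGlobal q (ε a.1)
      map_one' := by rw [SetLike.GradeZero.coe_one, map_one, map_one]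
      map_mul' := fun a b => by rw [SetLike.GradeZero.coe_mul, map_mul, map_mul]
      map_zero' := by rw [ZeroMemClass.coe_zero, map_zero, map_zero]
      map_add' := fun a b => by rw [AddMemClass.coe_add, map_add, map_add] }
  have hρ : ∀ a : A, ρ (algebraMap A (𝒮 0) a) = ProjUP.toGlobal q a := fun a => by
    show ProjUP.toGlobal q (ε (algebraMap A S a)) = _
    rw [ε.commutes]
    rfl
  obtain ⟨r, hr, τ, hτ⟩ := exists_hom (adjoin_one_eq_top hι hsym) hL ρ (fun a => v (pre a))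
    (fun x => by
      obtain ⟨m, hm⟩ := hcov x
      exact ⟨⟨ι m, hι m⟩, by rw [hvpre]; exact hm⟩)
    fun W g hg => by
      obtain ⟨Φ, h0, h1⟩ := hΦ W g hg
      refine ⟨Φ, fun a => ?_, fun a => ?_⟩
      · obtain ⟨c, hc⟩ := exists_eq_algebraMap hι hsym a.2
        rw [show a = algebraMap A (𝒮 0) c from Subtype.ext hc.symm, hρ]
        exact h0 c
      · conv_lhs => rw [← hpre a]
        exact h1 _
  refine ⟨r, ?_, τ, fun m => (hτ ⟨ι m, hι m⟩).trans (hvpre m)⟩
  rw [reassoc_of% hr, ← Spec.map_comp, ← CommRingCat.ofHom_comp]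
  refine Eq.trans ?_ (eq_toSpecΓ_toGlobal q)
  congr 3
  exact RingHom.ext hρ

theorem eq_of_iso_sym (hι : ∀ m : M, ι m ∈ 𝒮 1) (hsym : IsSymmetricAlgebra ι) {r r' : X ⟶ Proj 𝒮}
    (h0 : r ≫ Proj.toSpecZero 𝒮 ≫ Spec.map (CommRingCat.ofHom (algebraMap A (𝒮 0))) =
      r' ≫ Proj.toSpecZero 𝒮 ≫ Spec.map (CommRingCat.ofHom (algebraMap A (𝒮 0))))
    (τ : (Scheme.Modules.pullback r).obj (GrTwist.twist 𝒮 ((1 : ℕ) : ℤ)) ≅
      (Scheme.Modules.pullback r').obj (GrTwist.twist 𝒮 ((1 : ℕ) : ℤ)))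
    (hτ : ∀ m : M, τ.hom.app ⊤ (PicLib.pullSec r (sec (ι m) (hι m))) = PicLib.pullSec r' (sec (ι m) (hι m))) :
    r = r' := by
  haveI := mono_specMap_zero hι hsym
  refine eq_of_iso (adjoin_one_eq_top hι hsym) ?_ τ fun a ha => ?_
  · rw [← cancel_mono (Spec.map (CommRingCat.ofHom (algebraMap A (𝒮 0)))), Category.assoc, Category.assoc, h0]
  · obtain ⟨m, rfl⟩ := exists_eq_ι hι hsym ha
    exact hτ m

theorem twist_one_eq : Twist.twist 𝒮 1 = GrTwist.twist 𝒮 ((1 : ℕ) : ℤ) := rfl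

set_option maxHeartbeats 1000000 in
-- the twisting sheaves of the two definition files are definitionally equal
theorem exists_hom_twist (hι : ∀ m : M, ι m ∈ 𝒮 1) (hsym : IsSymmetricAlgebra ι)
    (q : X ⟶ Spec (CommRingCat.of A)) {L : X.Modules} (hL : PicF.IsInvertible L)
    (v : M →+ Γ(L, ⊤)) (hv : ∀ (a : A) (m : M), v (a • m) = ProjUP.toGlobal q a • v m)
    (hcov : ∀ x : X, ∃ m, x ∈ glocus L (v m)) :
    ∃ r : X ⟶ Proj 𝒮, r ≫ Proj.toSpecZero 𝒮 ≫ Spec.map (CommRingCat.ofHom (algebraMap A (𝒮 0))) = q ∧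
      ∃ τ : (Scheme.Modules.pullback r).obj (Twist.twist 𝒮 1) ≅ L,
        ∀ m : M, τ.hom.app ⊤ (ProjUP.pullSec r (Twist.twist 𝒮 1) (Twist.globalOf 𝒮 ⟨ι m, hι m⟩)) = v m :=
  exists_hom_sym hι hsym q hL v hv hcov

set_option maxHeartbeats 1000000 in
-- the twisting sheaves of the two definition files are definitionally equal
theorem eq_of_iso_twist (hι : ∀ m : M, ι m ∈ 𝒮 1) (hsym : IsSymmetricAlgebra ι) {r r' : X ⟶ Proj 𝒮}
    (h0 : r ≫ Proj.toSpecZero 𝒮 ≫ Spec.map (CommRingCat.ofHom (algebraMap A (𝒮 0))) =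
      r' ≫ Proj.toSpecZero 𝒮 ≫ Spec.map (CommRingCat.ofHom (algebraMap A (𝒮 0))))
    (τ : (Scheme.Modules.pullback r).obj (Twist.twist 𝒮 1) ≅ (Scheme.Modules.pullback r').obj (Twist.twist 𝒮 1))
    (hτ : ∀ m : M, τ.hom.app ⊤ (ProjUP.pullSec r (Twist.twist 𝒮 1) (Twist.globalOf 𝒮 ⟨ι m, hι m⟩)) =
      ProjUP.pullSec r' (Twist.twist 𝒮 1) (Twist.globalOf 𝒮 ⟨ι m, hι m⟩)) :
    r = r' :=
  eq_of_iso_sym hι hsym h0 τ hτ

end Groth.Agent.UPLib
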