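import Groth.Agent.UPLib.Basic

/-!
# Morphisms to `Proj` from invertible modules with sections: existence
-/

set_option autoImplicit false
set_option linter.unusedSectionVars false
set_option backward.isDefEq.respectTransparency.types false
set_option maxHeartbeats 400000

universe u

open AlgebraicGeometry CategoryTheory TopologicalSpace Opposite HomogeneousLocalization
open Groth.Agent.Coherent Groth.Agent.PicLib Groth.Agent.AmpleLib Groth.Agent.TwistLib.G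
open Groth.Agent.RelConeLib
open scoped HomogeneousIdeal

namespace Groth.Agent.UPLib

variable {A σ : Type u} [CommRing A] [SetLike σ A] [AddSubgroupClass σ A] {𝒜 : ℕ → σ} [GradedRing 𝒜]

/-- Homomorphisms agreeing in degree `0` and differing by `c` in degree `1` differ by `c ^ n` in degree `n`. -/
theorem map_eq_pow_mul (hgen : Algebra.adjoin (𝒜 0) (𝒜 1 : Set A) = ⊤) {C : Type u} [CommRing C] (e e' : A →+* C)
    (c : C) (h0 : ∀ a ∈ 𝒜 0, e' a = e a) (h1 : ∀ a ∈ 𝒜 1, e' a = c * e a) {n : ℕ} {a : A} (ha : a ∈ 𝒜 n) :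
    e' a = c ^ n * e a := by
  refine deg_induction hgen (P := fun n a => e' a = c ^ n * e a) (fun a ha => by simp [h0 a ha]) ?_ ?_ ?_ ha
  · intro n a b _ hb ih
    rw [map_mul, map_mul, ih, h1 b hb, pow_succ]; ring
  · intro n; simp
  · intro n a b _ _ ha hb
    rw [map_add, map_add, ha, hb, mul_add]

/-- Lifts to `A_(f)` of homomorphisms which differ by scaling agree. -/
theorem awayLift_eq_of_scale (hgen : Algebra.adjoin (𝒜 0) (𝒜 1 : Set A) = ⊤) {C : Type u} [CommRing C] (e e' : A →+* C)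
    (c : C) (h0 : ∀ a ∈ 𝒜 0, e' a = e a) (h1 : ∀ a ∈ 𝒜 1, e' a = c * e a) {d : ℕ} {f : A} (hf : f ∈ 𝒜 d)
    (hu : IsUnit (e f)) (hu' : IsUnit (e' f)) :
    awayLift (ℬ := 𝒜) e f hu = awayLift (ℬ := 𝒜) e' f hu' := by
  refine RingHom.ext fun q => ?_
  obtain ⟨n, a, ha, rfl⟩ := Away.mk_surjective 𝒜 hf q
  refine (hu'.pow n).mul_right_cancel ?_
  rw [awayLift_mk, map_eq_pow_mul hgen e e' c h0 h1 hf, map_eq_pow_mul hgen e e' c h0 h1 ha, mul_pow, ← pow_mul,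
    mul_left_comm, awayLift_mk, smul_eq_mul, mul_comm n d]

variable {X : Scheme.{u}} {L : X.Modules}

theorem exists_hom (hgen : Algebra.adjoin (𝒜 0) (𝒜 1 : Set A) = ⊤) (hL : PicF.IsInvertible L)
    (ρ : 𝒜 0 →+* Γ(X, ⊤)) (v : 𝒜 1 → Γ(L, ⊤)) (hcov : ∀ x : X, ∃ a : 𝒜 1, x ∈ glocus L (v a))
    (hext : ∀ (W : X.Opens) (g : Γ(L, W)), IsGen L W g → ∃ Φ : A →+* Γ(X, W),
      (∀ a : 𝒜 0, Φ a = res (le_top : W ≤ ⊤) (ρ a)) ∧ ∀ a : 𝒜 1, Φ a • g = resM L le_top (v a)) :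
    ∃ r : X ⟶ Proj 𝒜, r ≫ Proj.toSpecZero 𝒜 = X.toSpecΓ ≫ Spec.map (CommRingCat.ofHom ρ) ∧
      ∃ τ : (Scheme.Modules.pullback r).obj (GrTwist.twist 𝒜 ((1 : ℕ) : ℤ)) ≅ L,
        ∀ a : 𝒜 1, τ.hom.app ⊤ (PicLib.pullSec r (sec a.1 a.2)) = v a := by
  let W : 𝒜 1 → X.Opens := fun a => glocus L (v a)
  have hg : ∀ a, IsGen L (W a) (resM L le_top (v a)) := fun a => isGen_glocus (v a)
  choose Φ hΦ0 hΦ1 using fun a : 𝒜 1 => hext (W a) _ (hg a)
  have hΦa : ∀ a : 𝒜 1, Φ a a.1 = 1 := fun a => (hg a (W a) le_rfl).1 (by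
    show Φ a a.1 • resM L le_rfl _ = 1 • resM L le_rfl _
    rw [resM_self, hΦ1, one_smul])
  have hu : ∀ a : 𝒜 1, IsUnit (Φ a a.1) := fun a => (hΦa a).symm ▸ isUnit_one
  let ρW : ∀ a : 𝒜 1, CommRingCat.of (Away 𝒜 a.1) ⟶ Γ(X, W a) := fun a =>
    CommRingCat.ofHom (awayLift (ℬ := 𝒜) (Φ a) a.1 (hu a))
  let piece : ∀ a : 𝒜 1, (W a : Scheme.{u}) ⟶ Proj 𝒜 := fun a =>
    (W a).toSpecΓ ≫ Spec.map (ρW a) ≫ Proj.awayι 𝒜 a.1 a.2 one_pos
  have hρmk : ∀ (a : 𝒜 1) (b : A) (hb : b ∈ 𝒜 (1 • 1)),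
      (ρW a).hom (Away.mk 𝒜 a.2 1 b hb) = Φ a b := fun a b hb => by
    have h := awayLift_mk (ℬ := 𝒜) (Φ a) a.2 (hu a) 1 b hb
    rwa [hΦa, one_pow, mul_one] at h
  have hcovW : IsOpenCover W := eq_top_iff.2 fun x _ => by
    obtain ⟨a, ha⟩ := hcov x
    exact Opens.mem_iSup.2 ⟨a, ha⟩
  have hcompat : ∀ a b : 𝒜 1, X.homOfLE (inf_le_left : W a ⊓ W b ≤ W a) ≫ piece a =
      X.homOfLE (inf_le_right : W a ⊓ W b ≤ W b) ≫ piece b := by
    intro a b
    let ea := (res (inf_le_left : W a ⊓ W b ≤ W a)).comp (Φ a)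
    let eb := (res (inf_le_right : W a ⊓ W b ≤ W b)).comp (Φ b)
    have hea : ∀ c : 𝒜 1, ea c • resM L le_top (v a) = resM L le_top (v c) := fun c => by
      have h := congrArg (resM L (inf_le_left : W a ⊓ W b ≤ W a)) (hΦ1 a c)
      rwa [resM_smul, resM_resM, resM_resM] at h
    have heb : ∀ c : 𝒜 1, eb c • resM L le_top (v b) = resM L le_top (v c) := fun c => by
      have h := congrArg (resM L (inf_le_right : W a ⊓ W b ≤ W b)) (hΦ1 b c)
      rwa [resM_smul, resM_resM, resM_resM] at h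
    have hscale : ∀ c ∈ 𝒜 1, eb c = eb a * ea c := fun c hc => by
      refine ((hg b).restrict (inf_le_right : W a ⊓ W b ≤ W b) _ le_rfl).1 ?_
      show eb c • resM L le_rfl (resM L _ (resM L _ _)) = (eb a * ea c) • resM L le_rfl (resM L _ (resM L _ _))
      rw [resM_resM, resM_resM, mul_comm, mul_smul, heb a, hea ⟨c, hc⟩, heb ⟨c, hc⟩]
    have h0 : ∀ c ∈ 𝒜 0, eb c = ea c := fun c hc =>
      (congrArg (res inf_le_right) (hΦ0 b ⟨c, hc⟩)).trans ((res_res _ _ _).trans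
        ((res_res _ _ _).symm.trans (congrArg (res inf_le_left) (hΦ0 a ⟨c, hc⟩)).symm))
    have hua : IsUnit (ea a) := IsUnit.map (res (inf_le_left : W a ⊓ W b ≤ W a)) (hu a)
    have hub : IsUnit (eb b) := IsUnit.map (res (inf_le_right : W a ⊓ W b ≤ W b)) (hu b)
    have hab : IsUnit (ea b) ∧ IsUnit (eb a) := by
      have h := hscale b b.2
      rw [show eb b = 1 from (congrArg (fun z => res (inf_le_right : W a ⊓ W b ≤ W b) z) (hΦa b)).trans (map_one (res _))] at h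
      exact (IsUnit.mul_iff.1 (h ▸ isUnit_one)).symm
    have huab : IsUnit (ea (a.1 * b.1)) := by rw [map_mul]; exact hua.mul hab.1
    have huab' : IsUnit (eb (a.1 * b.1)) := by rw [map_mul]; exact hab.2.mul hub
    have hside : ∀ (c : 𝒜 1) (hle : W a ⊓ W b ≤ W c) (huc : IsUnit ((res hle).comp (Φ c) c.1)) (d : A) (hd : d ∈ 𝒜 1)
        (x : A) (hx : x = c.1 * d) (hux : IsUnit ((res hle).comp (Φ c) x)),
        X.homOfLE hle ≫ piece c = (W a ⊓ W b).toSpecΓ ≫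
          Spec.map (CommRingCat.ofHom (awayLift (ℬ := 𝒜) ((res hle).comp (Φ c)) x hux)) ≫
          Proj.awayι 𝒜 x (hx ▸ SetLike.mul_mem_graded c.2 hd) (Nat.add_pos_left one_pos 1) := by
      intro c hle huc d hd x hx hux
      rw [← Proj.SpecMap_awayMap_awayι (𝒜 := 𝒜) c.2 one_pos hd hx, ← Spec.map_comp_assoc, ← CommRingCat.ofHom_comp,
        awayLift_comp_awayMap ((res hle).comp (Φ c)) c.2 hd hx huc hux]
      show X.homOfLE hle ≫ (W c).toSpecΓ ≫ Spec.map (ρW c) ≫ _ = _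
      rw [← Scheme.Opens.toSpecΓ_SpecMap_presheaf_map_assoc, ← Spec.map_comp_assoc]
      congr 3
      refine CommRingCat.hom_ext (RingHom.ext fun q => ?_)
      obtain ⟨n, y, hy, rfl⟩ := Away.mk_surjective 𝒜 c.2 q
      refine (huc.pow n).mul_right_cancel ?_
      show res hle (awayLift (ℬ := 𝒜) (Φ c) c.1 (hu c) (Away.mk 𝒜 c.2 n y hy)) * res hle (Φ c c.1) ^ n = _
      rw [← map_pow, ← map_mul, awayLift_mk]
      exact (awayLift_mk ((res hle).comp (Φ c)) c.2 huc n y hy).symm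
    rw [hside a inf_le_left hua b.1 b.2 _ rfl huab, hside b inf_le_right hub a.1 a.2 _ (mul_comm _ _) huab']
    congr 3
    exact congrArg _ (awayLift_eq_of_scale hgen ea eb (eb a) h0 hscale
      (SetLike.mul_mem_graded a.2 b.2) huab huab')
  let r : X ⟶ Proj 𝒜 := (X.openCoverOfIsOpenCover W hcovW).glueMorphisms piece fun a b => by
    let e : Limits.pullback ((X.openCoverOfIsOpenCover W hcovW).f a) ((X.openCoverOfIsOpenCover W hcovW).f b) ≅
        ((W a ⊓ W b : X.Opens) : Scheme.{u}) := (isPullback_opens_inf _ _).isoPullback.symm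
    rw [← cancel_epi e.inv]
    simpa [e, Scheme.openCoverOfIsOpenCover] using hcompat a b
  have hr : ∀ a, (W a).ι ≫ r = piece a := fun a =>
    (X.openCoverOfIsOpenCover W hcovW).ι_glueMorphisms piece _ a
  have hle : ∀ a : 𝒜 1, W a ≤ r ⁻¹ᵁ Proj.basicOpen 𝒜 a.1 := fun a x hx => by
    have h : r.base x = (piece a).base ⟨x, hx⟩ := (congrArg (fun q => q.base ⟨x, hx⟩) (hr a)).trans rfl
    show r.base x ∈ Proj.basicOpen 𝒜 a.1
    rw [h, ← Proj.opensRange_awayι 𝒜 a.1 a.2 one_pos]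
    exact ⟨(Spec.map (ρW a)).base ((W a).toSpecΓ.base ⟨x, hx⟩), rfl⟩
  have happ : ∀ a : 𝒜 1, Proj.awayToSection 𝒜 a.1 ≫ r.appLE _ (W a) (hle a) = ρW a := fun a => by
    refine toSpecΓ_map_injective ((cancel_mono (Proj.awayι 𝒜 a.1 a.2 one_pos)).1 ?_)
    rw [Category.assoc, Category.assoc, ← ι_comp_eq a.2 one_pos r (W a) (hle a), hr a]
  have hpre : ∀ b : 𝒜 1, r ⁻¹ᵁ Proj.basicOpen 𝒜 b.1 = W b := fun b => by
    refine le_antisymm (fun x hx => ?_) (hle b)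
    obtain ⟨a, ha⟩ := Opens.mem_iSup.1 (hcovW.ge (Set.mem_univ x))
    have h : r.base x = (piece a).base ⟨x, ha⟩ := (congrArg (fun q => q.base ⟨x, ha⟩) (hr a)).trans rfl
    have hx' : (⟨x, ha⟩ : W a) ∈ piece a ⁻¹ᵁ Proj.basicOpen 𝒜 b.1 := by
      show (piece a).base ⟨x, ha⟩ ∈ Proj.basicOpen 𝒜 b.1
      rw [← h]; exact hx
    have hpa : piece a ⁻¹ᵁ Proj.basicOpen 𝒜 b.1 = (W a).ι ⁻¹ᵁ X.basicOpen (Φ a b.1) := by
      simp only [piece, Scheme.Hom.comp_preimage]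
      rw [Proj.awayι_preimage_basicOpen 𝒜 a.2 one_pos b.2 one_pos]
      have hel : Away.isLocalizationElem a.2 b.2 = Away.mk 𝒜 a.2 1 b.1 (by simpa using b.2) := by
        refine HomogeneousLocalization.val_injective _ ?_
        rw [Away.isLocalizationElem, Away.val_mk, Away.val_mk]
        simp
      rw [hel]
      refine (congrArg ((W a).toSpecΓ ⁻¹ᵁ ·) (SpecMap_preimage_basicOpen (ρW a) _)).trans ?_
      rw [hρmk, Scheme.Opens.toSpecΓ_preimage_basicOpen]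
    rw [hpa] at hx'
    have hin := glocus_inf (v b) (hg a)
    have hco : (hg a).coef le_rfl (resM L le_top (v b)) = Φ a b.1 := (hg a).coef_eq _ (by rw [resM_self]; exact hΦ1 a b)
    rw [hco] at hin
    exact (hin.ge hx').1
  refine ⟨r, ?_, ?_⟩
  · suffices key : ∀ a : 𝒜 1, (W a).ι ≫ r ≫ Proj.toSpecZero 𝒜 = (W a).ι ≫ X.toSpecΓ ≫ Spec.map (CommRingCat.ofHom ρ) from
      (X.openCoverOfIsOpenCover W hcovW).hom_ext _ _ key
    intro a
    rw [appLE_fromZero a.2 r (W a) (hle a), happ a, ← Scheme.Opens.toSpecΓ_SpecMap_presheaf_map_top_assoc,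
      ← Spec.map_comp]
    congr 2
    refine CommRingCat.hom_ext (RingHom.ext fun c => ?_)
    show awayLift (ℬ := 𝒜) (Φ a) a.1 (hu a) (fromZeroRingHom 𝒜 _ c) = res le_top (ρ c)
    rw [← hΦ0 a c]
    have h := awayLift_mk (ℬ := 𝒜) (Φ a) a.2 (hu a) 0 c.1 (by simp)
    rwa [pow_zero, mul_one, away_mk_zero] at h
  · have hcovO : ∀ y : Proj 𝒜, ∃ a : 𝒜 1, y ∈ Proj.basicOpen 𝒜 a.1 := fun y => by
      obtain ⟨f, hf, hy⟩ := exists_degOne hgen y
      exact ⟨⟨f, hf⟩, hy⟩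
    have hsup : (⨆ a : 𝒜 1, Proj.basicOpen 𝒜 a.1) = ⊤ := eq_top_iff.2 fun y _ => Opens.mem_iSup.2 (hcovO y)
    have hsg : ∀ a : 𝒜 1, IsGen (GrTwist.twist 𝒜 ((1 : ℕ) : ℤ)) (Proj.basicOpen 𝒜 a.1)
        (resM _ le_top (sec a.1 a.2)) := fun a => (le_glocus_iff _ _).1 (glocus_sec hgen a.2).ge
    have hid : ∀ (a b : 𝒜 1) (O : (Proj 𝒜).Opens) (hb : O ≤ Proj.basicOpen 𝒜 b.1),
        ∀ c : Γ(Proj 𝒜, O), c • resM _ (le_top : O ≤ ⊤) (sec b.1 b.2) = resM _ (le_top : O ≤ ⊤) (sec a.1 a.2) →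
        r.app O c • resM L (le_top : r ⁻¹ᵁ O ≤ ⊤) (v b) = resM L (le_top : r ⁻¹ᵁ O ≤ ⊤) (v a) := by
      intro a b O hb c hc
      have hbW : r ⁻¹ᵁ O ≤ W b := (r.preimage_mono hb).trans (hpre b).le
      have hc' : c = (Proj 𝒜).presheaf.map (homOfLE hb).op
          ((Proj.awayToSection 𝒜 b.1).hom (Away.mk 𝒜 b.2 1 a.1 (by simpa using a.2))) := by
        refine (hsg b O hb).1 ?_
        show c • resM _ hb (resM _ _ _) = _ • resM _ hb (resM _ _ _)
        rw [resM_resM, hc]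
        have h := congrArg (resM (GrTwist.twist 𝒜 ((1 : ℕ) : ℤ)) hb) (mk_smul_sec (𝒜 := 𝒜) b.2 a.1 (by simpa using a.2))
        rw [resM_smul, resM_resM, resM_resM] at h
        exact h.symm
      have hr' : r.app O c = res hbW (Φ b a.1) := by
        rw [hc', ← ConcreteCategory.comp_apply ((Proj 𝒜).presheaf.map _), Scheme.Hom.naturality,
          ← hρmk b a.1 (by simpa using a.2), ← happ b]
        show _ = X.presheaf.map _ (r.appLE _ (W b) (hle b) _)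
        rw [← ConcreteCategory.comp_apply (r.appLE _ (W b) (hle b)), Scheme.Hom.appLE_map]
        rfl
      rw [hr']
      have h := congrArg (resM L hbW) (hΦ1 b a)
      rwa [resM_smul, resM_resM, resM_resM] at h
    obtain ⟨θ, hθ⟩ := exists_hom_of_gen (L := GrTwist.twist 𝒜 ((1 : ℕ) : ℤ))
      (M := (Scheme.Modules.pushforward r).obj L) (fun a : 𝒜 1 => Proj.basicOpen 𝒜 a.1) hsup
      (fun a => resM _ le_top (sec a.1 a.2)) hsg (fun a => resM L le_top (v a)) fun a b O ha hb c hc => by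
        rw [resM_resM, resM_resM] at hc
        show resM L (r.preimage_mono ha) (resM L (le_top : r ⁻¹ᵁ Proj.basicOpen 𝒜 a.1 ≤ ⊤) (v a)) =
          r.app O c • resM L (r.preimage_mono hb) (resM L (le_top : r ⁻¹ᵁ Proj.basicOpen 𝒜 b.1 ≤ ⊤) (v b))
        rw [resM_resM, resM_resM]
        exact (hid a b O hb c hc.symm).symm
    let ψ := ((Scheme.Modules.pullbackPushforwardAdjunction r).homEquiv _ _).symm θ
    have hLs := TwistLib.G.isInvertible_twist (exists_degOne hgen) ((1 : ℕ) : ℤ)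
    have hψ : IsIso ψ := by
      refine PicLib.isIso_of_gens ψ (fun a : 𝒜 1 => r ⁻¹ᵁ Proj.basicOpen 𝒜 a.1) ?_
        (fun a => PicLib.pullSec r (resM _ le_top (sec a.1 a.2))) (fun a => isGen_pullSec r (hsg a) hLs) fun a => ?_
      · rw [eq_top_iff]
        exact fun x _ => Opens.mem_iSup.2 (hcovO (r.base x))
      · rw [homEquiv_symm_app_pullSec, hθ a]
        exact (le_glocus_iff _ _).1 (hpre a).le
    refine ⟨asIso ψ, fun a => ?_⟩
    refine (homEquiv_symm_app_pullSec r θ (sec a.1 a.2)).trans ?_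
    refine AmpleLib.sec_ext L _ _ fun x _ => ?_
    obtain ⟨b, hxb⟩ := hcovO (r.base x)
    refine ⟨r ⁻¹ᵁ Proj.basicOpen 𝒜 b.1, le_top, hxb, ?_⟩
    have h1 : θ.app (Proj.basicOpen 𝒜 b.1) (resM _ le_top (sec a.1 a.2)) = resM L le_top (θ.app ⊤ (sec a.1 a.2)) :=
      app_resM θ le_top _
    refine h1.symm.trans ?_
    rw [show resM (GrTwist.twist 𝒜 ((1 : ℕ) : ℤ)) (le_top : Proj.basicOpen 𝒜 b.1 ≤ ⊤) (sec a.1 a.2) = _ from
      (mk_smul_sec (𝒜 := 𝒜) b.2 a.1 (by simpa using a.2)).symm, Scheme.Modules.Hom.app_smul]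
    refine (congrArg (_ • ·) (hθ b)).trans ?_
    exact hid a b _ le_rfl _ (mk_smul_sec (𝒜 := 𝒜) b.2 a.1 (by simpa using a.2))

end Groth.Agent.UPLib
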